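import Cfsg.Agent.Lib.Schur.PcCollect

/-!
Consistent polycyclic presentations by involutory layers define groups: if collection proves that each
generator acts on the later ones by an automorphism whose square is inner, there is a group of order `2 ^ n`
with generators satisfying exactly the relations.
-/

set_option autoImplicit false
set_option linter.unusedSectionVars false

namespace Cfsg.Agent.Lib.E6Mult45

open Cfsg.Agent.Lib.Schur.PcCollect (card_closure_insert)
open Subgroup

/-- The product of a word. -/
def wel {Γ : Type*} [Group Γ] (g : ℕ → Γ) (w : List ℕ) : Γ := (w.map g).prod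

section Word

variable {Γ : Type*} [Group Γ] (g : ℕ → Γ)

theorem wel_append (a b : List ℕ) : wel g (a ++ b) = wel g a * wel g b := by simp [wel]

theorem wel_cons (a : ℕ) (b : List ℕ) : wel g (a :: b) = g a * wel g b := by simp [wel]

theorem wel_map {Δ : Type*} [Group Δ] (f : Γ →* Δ) (h : ℕ → Δ) (w : List ℕ) (hw : ∀ a ∈ w, f (g a) = h a) :
    f (wel g w) = wel h w := by
  rw [wel, wel, map_list_prod, List.map_map]
  exact congrArg List.prod (List.map_congr_left hw)

theorem wel_flatMap (u : ℕ → List ℕ) : ∀ w : List ℕ, wel g (w.flatMap u) = wel (fun k => wel g (u k)) w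
  | [] => rfl
  | a :: w => by rw [List.flatMap_cons, wel_append, wel_cons, wel_flatMap u w]

end Word

/-- A presentation by a function giving the words: `g_i g_i = W i i` and `g_i g_j = g_j W i j` for `j < i`. -/
structure Pres where
  n : ℕ
  fuel : ℕ
  W : ℕ → ℕ → List ℕ

namespace Pres

variable (D : Pres)

/-- The left side of a relation. -/
def lhs (_D : Pres) (i j : ℕ) : List ℕ := [i, j]

/-- The right side of a relation. -/
def rhs (i j : ℕ) : List ℕ := if i = j then D.W i j else j :: D.W i j

/-- Rewriting from the right. -/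
def run : ℕ → List ℕ → List ℕ → List ℕ
  | 0, rev, q => rev.reverse ++ q
  | _ + 1, [], q => q
  | f + 1, i :: rev, q =>
    match q with
    | [] => run f rev [i]
    | j :: q' =>
      if Nat.blt j i then run f ((D.W i j).reverse ++ j :: rev) q'
      else if Nat.beq i j then run f ((D.W i i).reverse ++ rev) q'
      else run f rev (i :: j :: q')

/-- Collection. -/
def collect (w : List ℕ) : List ℕ := D.run D.fuel w.reverse []

/-- The words involve later generators only. -/
def boundB : Bool :=
  (List.range D.n).all fun i => (List.range (i + 1)).all fun j =>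
    (D.W i j).all fun l => Nat.blt j l && Nat.blt l D.n

/-- The image of a word under the action of the generator `j`. -/
def act (j : ℕ) (w : List ℕ) : List ℕ := w.flatMap fun k => D.W k j

/-- The consistency conditions at the generator `j`. -/
def stepB (j : ℕ) : Bool :=
  (D.collect (D.act j (D.W j j)) == D.collect (D.W j j)) &&
  (List.range D.n).all fun k => !Nat.blt j k ||
    ((D.collect (D.W j j ++ D.act j (D.W k j)) == D.collect (k :: D.W j j)) &&
      (List.range (k + 1)).all fun l => !Nat.blt j l ||
        (D.collect (D.act j (D.lhs k l)) == D.collect (D.act j (D.rhs k l))))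

/-- The presentation is consistent. -/
def consB : Bool := D.boundB && (List.range D.n).all D.stepB

/-- A group with generators from `j` on satisfying the relations, each outside the group of the later ones. -/
structure Model (j : ℕ) (T : Type) [Group T] where
  g : ℕ → T
  fin : Finite T
  rel : ∀ i < D.n, ∀ k ≤ i, j ≤ k → wel g (D.lhs i k) = wel g (D.rhs i k)
  strict : ∀ k < D.n, j ≤ k → g k ∉ closure (g '' {l | k < l ∧ l < D.n})
  gen : closure (g '' {l | j ≤ l ∧ l < D.n}) = ⊤

variable {D}

theorem bound (hb : D.boundB = true) {i j l : ℕ} (hi : i < D.n) (hj : j ≤ i) (hl : l ∈ D.W i j) :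
    j < l ∧ l < D.n := by
  simp only [boundB, List.all_eq_true, List.mem_range, Bool.and_eq_true, Nat.blt_eq] at hb
  exact hb i hi j (by omega) l hl

/-- Relations from a given generator on. -/
def RelsFrom (D : Pres) {Γ : Type*} [Group Γ] (g : ℕ → Γ) (j : ℕ) : Prop :=
  ∀ i < D.n, ∀ k ≤ i, j ≤ k → wel g (D.lhs i k) = wel g (D.rhs i k)

theorem run_spec (hb : D.boundB = true) {Γ : Type*} [Group Γ] {g : ℕ → Γ} {j : ℕ} (hrel : D.RelsFrom g j) :
    ∀ (f : ℕ) (rev q : List ℕ), (∀ a ∈ rev, j ≤ a ∧ a < D.n) → (∀ a ∈ q, j ≤ a ∧ a < D.n) →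
      wel g (rev.reverse ++ q) = wel g (D.run f rev q)
  | 0, rev, q, _, _ => rfl
  | _ + 1, [], q, _, _ => rfl
  | f + 1, i :: rev, [], hr, _ => by
    rw [run, ← run_spec hb hrel f rev [i] (fun a ha => hr a (List.mem_cons_of_mem _ ha))
      (fun a ha => hr a (by simp_all))]
    simp
  | f + 1, i :: rev, k :: q', hr, hq => by
    obtain ⟨hi, hin⟩ := hr i List.mem_cons_self
    obtain ⟨hk, hkn⟩ := hq k List.mem_cons_self
    rw [run]
    split_ifs with h1 h2
    · rw [Nat.blt_eq] at h1
      have e := hrel i hin k h1.le hk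
      rw [lhs, rhs, if_neg (by omega), wel_cons, wel_cons, wel_cons, show wel g [] = 1 from rfl,
        mul_one] at e
      rw [← run_spec hb hrel f _ _ ?_ fun a ha => hq a (List.mem_cons_of_mem _ ha)]
      · simp only [List.reverse_cons, List.reverse_append, List.reverse_reverse, wel_append, wel_cons,
          show wel g [] = 1 from rfl, mul_one, mul_assoc]
        rw [← mul_assoc (g i) (g k), e]
        simp only [mul_assoc]
      · intro a ha
        rw [List.mem_append, List.mem_reverse, List.mem_cons] at ha
        rcases ha with ha | rfl | ha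
        · obtain ⟨h, h'⟩ := bound hb hin h1.le ha
          exact ⟨by omega, h'⟩
        · exact ⟨hk, hkn⟩
        · exact hr a (List.mem_cons_of_mem _ ha)
    · rw [Nat.beq_eq] at h2
      subst h2
      have e := hrel i hin i le_rfl hi
      rw [lhs, rhs, if_pos rfl, wel_cons, wel_cons, show wel g [] = 1 from rfl, mul_one] at e
      rw [← run_spec hb hrel f _ _ ?_ fun a ha => hq a (List.mem_cons_of_mem _ ha)]
      · simp only [List.reverse_cons, List.reverse_append, List.reverse_reverse, wel_append, wel_cons,
          show wel g [] = 1 from rfl, mul_one, mul_assoc]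
        rw [← mul_assoc (g i) (g i), e]
      · intro a ha
        rw [List.mem_append, List.mem_reverse] at ha
        rcases ha with ha | ha
        · obtain ⟨h, h'⟩ := bound hb hin le_rfl ha
          exact ⟨by omega, h'⟩
        · exact hr a (List.mem_cons_of_mem _ ha)
    · rw [← run_spec hb hrel f rev (i :: k :: q') (fun a ha => hr a (List.mem_cons_of_mem _ ha)) ?_]
      · simp
      · intro a ha
        rcases List.mem_cons.1 ha with rfl | ha
        · exact ⟨hi, hin⟩
        · exact hq a ha

theorem eq_of_collect (hb : D.boundB = true) {Γ : Type*} [Group Γ] {g : ℕ → Γ} {j : ℕ}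
    (hrel : D.RelsFrom g j) {u v : List ℕ} (hu : ∀ a ∈ u, j ≤ a ∧ a < D.n) (hv : ∀ a ∈ v, j ≤ a ∧ a < D.n)
    (h : (D.collect u == D.collect v) = true) : wel g u = wel g v := by
  rw [beq_iff_eq, collect, collect] at h
  have h1 := run_spec hb hrel D.fuel u.reverse [] (fun a ha => hu a (by simpa using ha)) (by simp)
  have h2 := run_spec hb hrel D.fuel v.reverse [] (fun a ha => hv a (by simpa using ha)) (by simp)
  rw [List.reverse_reverse, List.append_nil] at h1 h2
  rw [h1, h2, h]

theorem card_from (hb : D.boundB = true) {Γ : Type*} [Group Γ] [Finite Γ] {g : ℕ → Γ} {j₀ : ℕ}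
    (hrel : D.RelsFrom g j₀)
    (hstrict : ∀ k < D.n, j₀ ≤ k → g k ∉ closure (g '' {l | k < l ∧ l < D.n})) :
    ∀ d j, j₀ ≤ j → j + d = D.n → Nat.card (closure (g '' {l | j ≤ l ∧ l < D.n})) = 2 ^ d := by
  intro d
  induction d with
  | zero =>
    intro j _ hj
    rw [show {l | j ≤ l ∧ l < D.n} = (∅ : Set ℕ) from Set.eq_empty_of_forall_notMem fun l hl => by
      simp only [Set.mem_setOf_eq] at hl
      omega]
    simp
  | succ d ih =>
    intro j hj0 hj
    have hjn : j < D.n := by omega
    have hset : g '' {l | j ≤ l ∧ l < D.n} = insert (g j) (g '' {l | j < l ∧ l < D.n}) := by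
      rw [← Set.image_insert_eq]
      congr 1
      ext l
      simp only [Set.mem_setOf_eq, Set.mem_insert_iff]
      omega
    have hwmem : ∀ i < D.n, j ≤ i → wel g (D.W i j) ∈ closure (g '' {l | j < l ∧ l < D.n}) := by
      intro i hi hji
      refine list_prod_mem fun x hx => ?_
      obtain ⟨l, hl, rfl⟩ := List.mem_map.1 hx
      exact subset_closure ⟨l, bound hb hi hji hl, rfl⟩
    rw [hset, card_closure_insert Nat.prime_two _ _ ?_ ?_ (hstrict j hjn hj0), pow_succ, mul_comm (2 ^ d)]
    · congr 1
      have hnext := ih (j + 1) (by omega) (by omega)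
      rwa [show {l | j + 1 ≤ l ∧ l < D.n} = {l | j < l ∧ l < D.n} by ext; simp [Nat.add_one_le_iff]] at hnext
    · rintro _ ⟨l, ⟨hjl, hl⟩, rfl⟩
      have h := hrel l hl j hjl.le hj0
      rw [lhs, rhs, if_neg (by omega), wel_cons, wel_cons, wel_cons, show wel g [] = 1 from rfl,
        mul_one] at h
      rw [mul_assoc, h, inv_mul_cancel_left]
      exact hwmem l hl hjl.le
    · have h := hrel j hjn j le_rfl hj0
      rw [lhs, rhs, if_pos rfl, wel_cons, wel_cons, show wel g [] = 1 from rfl, mul_one] at h
      rw [pow_two, h]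
      exact hwmem j hjn le_rfl

theorem exists_model (hc : D.consB = true) :
    ∀ d j, j + d = D.n → ∃ (T : Type) (_ : Group T), Nonempty (D.Model j T) := by
  simp only [consB, Bool.and_eq_true, List.all_eq_true, List.mem_range] at hc
  obtain ⟨hb, hs⟩ := hc
  intro d
  induction d with
  | zero =>
    intro j hj
    have hempty : ∀ k, ¬ (j ≤ k ∧ k < D.n) := fun k => by omega
    refine ⟨Unit, inferInstance, ⟨⟨fun _ => (), inferInstance, fun _ _ _ _ _ => rfl, fun k hk hjk => ?_, ?_⟩⟩⟩
    · exact absurd ⟨hjk, hk⟩ (hempty k)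
    · exact Subsingleton.elim _ _
  | succ d ih =>
    intro j hj
    have hjn : j < D.n := by omega
    obtain ⟨T, _, ⟨M⟩⟩ := ih (j + 1) (by omega)
    have := M.fin
    have hrel : D.RelsFrom M.g (j + 1) := M.rel
    have hmem : ∀ k, j ≤ k → k < D.n → ∀ a ∈ D.W k j, j + 1 ≤ a ∧ a < D.n := fun k hk hkn a ha => by
      obtain ⟨h1, h2⟩ := bound hb hkn hk ha
      exact ⟨h1, h2⟩
    have hact : ∀ w : List ℕ, (∀ a ∈ w, j + 1 ≤ a ∧ a < D.n) → ∀ b ∈ D.act j w, j + 1 ≤ b ∧ b < D.n := by
      intro w hw b hb'
      obtain ⟨a, ha, hab⟩ := List.mem_flatMap.1 hb'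
      exact hmem a (by have := (hw a ha).1; omega) (hw a ha).2 b hab
    have hwj := hmem j le_rfl hjn
    have hst := hs j hjn
    simp only [stepB, Bool.and_eq_true, List.all_eq_true, List.mem_range, Bool.or_eq_true,
      Bool.not_eq_true'] at hst
    obtain ⟨hfix, hst⟩ := hst
    set a : T := wel M.g (D.W j j) with ha
    set φv : ℕ → T := fun k => wel M.g (D.W k j) with hφv
    have hφrel : ∀ i < D.n, ∀ k ≤ i, j + 1 ≤ k →
        wel φv (D.lhs i k) = wel φv (D.rhs i k) := by
      intro i hi k hk hjk
      have hlt : Nat.blt j i = true := by rw [Nat.blt_eq]; omega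
      have hlt' : Nat.blt j k = true := by rw [Nat.blt_eq]; omega
      have h := ((hst i hi).resolve_left (by simp [hlt])).2 k (by omega)
      have h' := h.resolve_left (by simp [hlt'])
      have hl : ∀ b ∈ D.lhs i k, j + 1 ≤ b ∧ b < D.n := by
        intro b hb'
        simp only [lhs, List.mem_cons, List.not_mem_nil, or_false] at hb'
        omega
      have hr : ∀ b ∈ D.rhs i k, j + 1 ≤ b ∧ b < D.n := by
        intro b hb'
        rw [rhs] at hb'
        split_ifs at hb' with he
        · obtain ⟨h1, h2⟩ := bound hb hi hk hb'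
          exact ⟨by omega, h2⟩
        · rcases List.mem_cons.1 hb' with rfl | hb'
          · omega
          · obtain ⟨h1, h2⟩ := bound hb hi hk hb'
            exact ⟨by omega, h2⟩
      have e := eq_of_collect hb hrel (hact _ hl) (hact _ hr) h'
      rwa [act, act, wel_flatMap, wel_flatMap] at e
    -- the automorphism by a graph
    have hcT : Nat.card T = 2 ^ d := by
      rw [← card_from hb hrel M.strict d (j + 1) le_rfl (by omega), M.gen, Subgroup.card_top]
    have hpair : ∀ w, wel (fun k => ((M.g k, φv k) : T × T)) w = (wel M.g w, wel φv w) := by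
      intro w
      induction w with
      | nil => rfl
      | cons b w ihw => rw [wel_cons, ihw, wel_cons, wel_cons]; rfl
    set S := closure ((fun k => ((M.g k, φv k) : T × T)) '' {l | j + 1 ≤ l ∧ l < D.n}) with hS
    have hcS : Nat.card S = 2 ^ d := by
      refine card_from hb (fun i hi k hk hjk => ?_) (fun k hk hjk h => ?_) d (j + 1) le_rfl (by omega)
      · rw [hpair, hpair, hrel i hi k hk hjk, hφrel i hi k hk hjk]
      · refine M.strict k hk hjk ?_
        have h2 := mem_map_of_mem (MonoidHom.fst T T) h
        rw [MonoidHom.map_closure, Set.image_image] at h2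
        exact h2
    have hS1 : S.map (MonoidHom.fst T T) = ⊤ := by
      rw [hS, MonoidHom.map_closure, Set.image_image]
      exact M.gen
    have hbij : Function.Bijective ((MonoidHom.fst T T).comp S.subtype) := by
      refine (Nat.bijective_iff_surjective_and_card _).2 ⟨?_, hcS.trans hcT.symm⟩
      rw [← MonoidHom.range_eq_top, MonoidHom.range_comp, Subgroup.range_subtype, hS1]
    set e := MulEquiv.ofBijective _ hbij with he
    set φ : T →* T := ((MonoidHom.snd T T).comp S.subtype).comp e.symm.toMonoidHom with hφ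
    have hφg : ∀ k, j + 1 ≤ k → k < D.n → φ (M.g k) = φv k := by
      intro k hk hkn
      have hm : ((M.g k, φv k) : T × T) ∈ S := subset_closure ⟨k, ⟨hk, hkn⟩, rfl⟩
      have : e.symm (M.g k) = ⟨_, hm⟩ := e.symm_apply_eq.2 rfl
      show (MonoidHom.snd T T) (S.subtype (e.symm (M.g k))) = _
      rw [this]
      rfl
    have hφw : ∀ w : List ℕ, (∀ b ∈ w, j + 1 ≤ b ∧ b < D.n) → φ (wel M.g w) = wel M.g (D.act j w) := by
      intro w hw
      rw [act, wel_flatMap]
      exact wel_map M.g φ _ w fun b hb' => hφg b (hw b hb').1 (hw b hb').2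
    have hφa : φ a = a := by
      rw [ha, hφw _ hwj]
      exact eq_of_collect hb hrel (hact _ hwj) hwj hfix
    have hsq : ∀ t, a * φ (φ t) = t * a := by
      intro t
      have : (φ.comp φ).eqLocus (MulAut.conj a⁻¹).toMonoidHom = ⊤ := by
        rw [eq_top_iff, ← M.gen, closure_le]
        rintro _ ⟨k, ⟨hk, hkn⟩, rfl⟩
        have hlt : Nat.blt j k = true := by rw [Nat.blt_eq]; omega
        have h1 := ((hst k hkn).resolve_left (by simp [hlt])).1
        have hku := hmem k (by omega) hkn
        have e1 := eq_of_collect hb hrel (u := D.W j j ++ D.act j (D.W k j)) (v := k :: D.W j j)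
          (fun b hb' => (List.mem_append.1 hb').elim (hwj b) (hact _ hku b))
          (fun b hb' => (List.mem_cons.1 hb').elim (fun h => h ▸ ⟨hk, hkn⟩) (hwj b)) h1
        rw [wel_append, wel_cons, ← hφw _ hku, ← ha] at e1
        show φ (φ (M.g k)) = a⁻¹ * M.g k * a⁻¹⁻¹
        rw [inv_inv, hφg k hk hkn, hφv, mul_assoc, ← e1, inv_mul_cancel_left]
      have h2 := (this ▸ mem_top t : t ∈ (φ.comp φ).eqLocus (MulAut.conj a⁻¹).toMonoidHom)
      have h3 : φ (φ t) = a⁻¹ * t * a⁻¹⁻¹ := h2
      rw [h3, inv_inv]
      group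
    have hinj : Function.Injective φ := by
      intro x y hxy
      have h1 := hsq x
      rw [hxy, hsq y] at h1
      exact (mul_right_cancel h1).symm
    set A : MulAut T := MulEquiv.ofBijective φ (Finite.injective_iff_bijective.1 hinj) with hA
    have hAv : ∀ t, A t = φ t := fun t => rfl
    set ψ : Multiplicative ℤ →* MulAut T := zpowersHom (MulAut T) A with hψ
    set s : T ⋊[ψ] Multiplicative ℤ := SemidirectProduct.inr (Multiplicative.ofAdd 1) with hsdef
    have hs : ∀ t, s * SemidirectProduct.inl t * s⁻¹ = SemidirectProduct.inl (φ t) := fun t => by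
      rw [hsdef, ← map_inv, ← SemidirectProduct.inl_aut, hψ, zpowersHom_apply, toAdd_ofAdd, zpow_one, hAv]
    set x : T ⋊[ψ] Multiplicative ℤ := SemidirectProduct.inl a * (s * s) with hx
    have hcent : ∀ y, Commute y x := by
      intro y
      have h1 : ∀ t, Commute (SemidirectProduct.inl t) x := by
        intro t
        have e2 : s * s * SemidirectProduct.inl t = SemidirectProduct.inl (φ (φ t)) * (s * s) := by
          rw [← hs, ← hs]
          group
        show SemidirectProduct.inl t * x = x * SemidirectProduct.inl t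
        rw [hx, mul_assoc (SemidirectProduct.inl a), e2,
          ← mul_assoc (SemidirectProduct.inl t : T ⋊[ψ] Multiplicative ℤ) (SemidirectProduct.inl a) (s * s),
          ← mul_assoc (SemidirectProduct.inl a : T ⋊[ψ] Multiplicative ℤ) (SemidirectProduct.inl (φ (φ t))) (s * s),
          ← (SemidirectProduct.inl : T →* T ⋊[ψ] Multiplicative ℤ).map_mul t a,
          ← (SemidirectProduct.inl : T →* T ⋊[ψ] Multiplicative ℤ).map_mul a (φ (φ t)), hsq t]
      have h2 : Commute s x := by
        show s * x = x * s
        rw [hx, ← mul_assoc, show s * SemidirectProduct.inl a = SemidirectProduct.inl (φ a) * s by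
          rw [← hs]; group, hφa]
        group
      have h3 : ∀ z : Multiplicative ℤ, Commute (SemidirectProduct.inr z : T ⋊[ψ] Multiplicative ℤ) x := by
        intro z
        have : (SemidirectProduct.inr z : T ⋊[ψ] Multiplicative ℤ) = s ^ (Multiplicative.toAdd z) := by
          rw [hsdef, ← map_zpow, ← ofAdd_zsmul]
          simp
        rw [this]
        exact h2.zpow_left _
      rw [← SemidirectProduct.inl_left_mul_inr_right y]
      exact (h1 _).mul_left (h3 _)
    have hN : (zpowers x).Normal := ⟨fun c hc y => by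
      obtain ⟨k, rfl⟩ := mem_zpowers_iff.1 hc
      rw [((hcent y).zpow_right k).eq, mul_inv_cancel_right]
      exact zpow_mem (mem_zpowers x) k⟩
    set Q := (T ⋊[ψ] Multiplicative ℤ) ⧸ zpowers x
    set ι : T →* Q := (QuotientGroup.mk' _).comp SemidirectProduct.inl with hι
    set sb : Q := QuotientGroup.mk' _ s with hsb
    have hxq : ι a * (sb * sb) = 1 := by
      rw [hι, hsb, MonoidHom.comp_apply, ← map_mul, ← map_mul, QuotientGroup.mk'_apply,
        QuotientGroup.eq_one_iff]
      exact mem_zpowers x
    have hsι : ∀ t, sb * ι t * sb⁻¹ = ι (φ t) := fun t => by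
      rw [hι, hsb, MonoidHom.comp_apply, ← map_mul, ← map_inv, ← map_mul, hs]
      rfl
    have hιker : ∀ t, ι t = 1 → t = 1 := by
      intro t ht
      rw [hι, MonoidHom.comp_apply, QuotientGroup.mk'_apply, QuotientGroup.eq_one_iff] at ht
      obtain ⟨k, hk⟩ := mem_zpowers_iff.1 ht
      have h2 := congrArg (fun y => Multiplicative.toAdd (SemidirectProduct.rightHom y)) hk
      simp only [map_zpow, hx, hsdef, map_mul, SemidirectProduct.rightHom_inl, SemidirectProduct.rightHom_inr,
        one_mul, toAdd_zpow, toAdd_mul, toAdd_ofAdd, toAdd_one, smul_eq_mul] at h2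
      have hk0 : k = 0 := by omega
      rw [hk0, zpow_zero] at hk
      exact SemidirectProduct.inl_injective (hk.symm.trans (map_one _).symm)
    have hιinj : Function.Injective ι := (injective_iff_map_eq_one _).2 hιker
    have hnot : sb⁻¹ ∉ ι.range := by
      rintro ⟨t, ht⟩
      have h1 : sb * sb ∈ ι.range := ⟨a⁻¹, by rw [map_inv]; exact inv_eq_of_mul_eq_one_right hxq⟩
      rw [hι, hsb, MonoidHom.comp_apply, ← map_inv, QuotientGroup.mk'_apply, QuotientGroup.mk'_apply,
        QuotientGroup.eq] at ht
      obtain ⟨k, hk⟩ := mem_zpowers_iff.1 ht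
      have h2 := congrArg (fun y => Multiplicative.toAdd (SemidirectProduct.rightHom y)) hk
      simp only [map_zpow, hx, hsdef, map_mul, map_inv, SemidirectProduct.rightHom_inl,
        SemidirectProduct.rightHom_inr, one_mul, inv_one, toAdd_zpow, toAdd_mul, toAdd_inv, toAdd_ofAdd,
        smul_eq_mul] at h2
      omega
    have hfin : Finite Q := by
      refine Finite.of_surjective (fun v : T × Bool => ι v.1 * if v.2 then sb else 1) fun y => ?_
      obtain ⟨y, rfl⟩ := QuotientGroup.mk'_surjective _ y
      rw [← SemidirectProduct.inl_left_mul_inr_right y, map_mul]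
      have hr : (SemidirectProduct.inr y.right : T ⋊[ψ] Multiplicative ℤ) =
          s ^ (Multiplicative.toAdd y.right) := by
        rw [hsdef, ← map_zpow, ← ofAdd_zsmul]
        simp
      rw [hr, map_zpow, ← hsb]
      have hss : sb * sb = ι a⁻¹ := by rw [map_inv]; exact (inv_eq_of_mul_eq_one_right hxq).symm
      rcases Int.even_or_odd' (Multiplicative.toAdd y.right) with ⟨k, hk | hk⟩ <;> rw [hk]
      · refine ⟨(y.left * a⁻¹ ^ k, false), ?_⟩
        show ι (y.left * a⁻¹ ^ k) * (1 : Q) = _
        rw [mul_one, map_mul, map_zpow, zpow_mul, show (2 : ℤ) = ((2 : ℕ) : ℤ) from rfl, zpow_natCast, pow_two,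
          hss]
        rfl
      · refine ⟨(y.left * a⁻¹ ^ k, true), ?_⟩
        show ι (y.left * a⁻¹ ^ k) * sb = _
        rw [map_mul, map_zpow, zpow_add_one, zpow_mul, show (2 : ℤ) = ((2 : ℕ) : ℤ) from rfl, zpow_natCast,
          pow_two, hss, mul_assoc]
        rfl
    set g : ℕ → Q := fun k => if k = j then sb⁻¹ else ι (M.g k) with hgdef
    have hgj : g j = sb⁻¹ := if_pos rfl
    have hgk : ∀ k, k ≠ j → g k = ι (M.g k) := fun k hk => if_neg hk
    have hgw : ∀ w : List ℕ, (∀ b ∈ w, j + 1 ≤ b ∧ b < D.n) → wel g w = ι (wel M.g w) := fun w hw =>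
      (wel_map M.g ι g w fun b hb' => (hgk b (by have := (hw b hb').1; omega)).symm).symm
    refine ⟨Q, inferInstance, ⟨⟨g, hfin, ?_, ?_, ?_⟩⟩⟩
    · intro i hi k hk hjk
      rcases Nat.lt_or_ge j k with hlt | hle
      · rw [hgw, hgw, hrel i hi k hk hlt]
        · intro b hb'
          rw [rhs] at hb'
          split_ifs at hb'
          · obtain ⟨h1, h2⟩ := bound hb hi hk hb'
            exact ⟨by omega, h2⟩
          · rcases List.mem_cons.1 hb' with rfl | hb'
            · omega
            · obtain ⟨h1, h2⟩ := bound hb hi hk hb'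
              exact ⟨by omega, h2⟩
        · intro b hb'
          simp only [lhs, List.mem_cons, List.not_mem_nil, or_false] at hb'
          omega
      · obtain rfl : k = j := by omega
        rw [lhs, rhs]
        split_ifs with hik
        · subst hik
          rw [wel_cons, wel_cons, show wel g [] = 1 from rfl, mul_one, hgj, hgw _ hwj, ← mul_inv_rev,
            ← ha]
          exact inv_eq_of_mul_eq_one_left hxq
        · rw [wel_cons, wel_cons, wel_cons, show wel g [] = 1 from rfl, mul_one, hgj, hgk i hik,
            hgw _ (hmem i hk hi), show wel M.g (D.W i k) = φ (M.g i) from (hφg i (by omega) hi).symm, ← hsι]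
          group
    · intro k hk hjk hmem'
      rcases Nat.lt_or_ge j k with hlt | hle
      · refine M.strict k hk hlt ?_
        rw [hgk k (by omega)] at hmem'
        have himg : g '' {l | k < l ∧ l < D.n} = ι '' (M.g '' {l | k < l ∧ l < D.n}) := by
          rw [Set.image_image]
          refine Set.image_congr fun l hl => hgk l ?_
          have : k < l ∧ l < D.n := hl
          omega
        rw [himg, ← MonoidHom.map_closure] at hmem'
        obtain ⟨y, hy, hyk⟩ := hmem'
        rwa [← hιinj hyk]
      · obtain rfl : k = j := by omega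
        rw [hgj] at hmem'
        refine hnot ((closure_le _).2 ?_ hmem')
        rintro _ ⟨l, ⟨hl, -⟩, rfl⟩
        exact ⟨_, (hgk l (by omega)).symm⟩
    · rw [eq_top_iff]
      rintro y -
      obtain ⟨y, rfl⟩ := QuotientGroup.mk'_surjective _ y
      have hrange : ι.range ≤ closure (g '' {l | j ≤ l ∧ l < D.n}) := by
        rw [MonoidHom.range_eq_map, ← M.gen, MonoidHom.map_closure, closure_le]
        rintro _ ⟨_, ⟨l, ⟨hl, hln⟩, rfl⟩, rfl⟩
        exact subset_closure ⟨l, ⟨by omega, hln⟩, hgk l (by omega)⟩
      have hsmem : sb ∈ closure (g '' {l | j ≤ l ∧ l < D.n}) := by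
        rw [← inv_inv sb, ← hgj]
        exact inv_mem (subset_closure ⟨j, ⟨le_rfl, hjn⟩, rfl⟩)
      have hr : (SemidirectProduct.inr y.right : T ⋊[ψ] Multiplicative ℤ) =
          s ^ (Multiplicative.toAdd y.right) := by
        rw [hsdef, ← map_zpow, ← ofAdd_zsmul]
        simp
      rw [← SemidirectProduct.inl_left_mul_inr_right y, hr, map_mul, map_zpow]
      exact mul_mem (hrange ⟨_, rfl⟩) (zpow_mem hsmem _)

/-- A consistent presentation is satisfied in a group of order `2 ^ n`. -/
theorem exists_group (hc : D.consB = true) : ∃ (T : Type) (_ : Group T) (_ : Finite T) (g : ℕ → T),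
    (∀ i < D.n, ∀ k ≤ i, wel g (D.lhs i k) = wel g (D.rhs i k)) ∧
      ∀ k < D.n, g k ∉ closure (g '' {l | k < l ∧ l < D.n}) := by
  obtain ⟨T, _, ⟨M⟩⟩ := exists_model hc D.n 0 (Nat.zero_add _)
  exact ⟨T, inferInstance, M.fin, M.g, fun i hi k hk => M.rel i hi k hk (Nat.zero_le _),
    fun k hk => M.strict k hk (Nat.zero_le _)⟩

end Pres

end Cfsg.Agent.Lib.E6Mult45
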