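import Cfsg.Agent.Lib.E6Mult45.Gens
import Cfsg.Agent.Lib.E6Mult45.PcExist

/-!
The extension of the unipotent group of ²E₆(2) by two central involutions, and the strictness of the series
of the thirty-six generators.
-/

set_option autoImplicit false
set_option maxRecDepth 100000
set_option linter.unusedSectionVars false

namespace Cfsg.Agent.Lib.E6Mult45

open Cfsg.Lie
open Cfsg.Agent.Lib.ChevStructure Cfsg.Agent.Lib.LieTwisted Cfsg.Agent.Lib.LieTwisted.Twist
open Cfsg.Agent.Lib.LieTwisted.Twist.E6 (C)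
open Cfsg.Agent.Lib.TwMult (uS mem_uS)
open Subgroup
open scoped MatrixGroups

universe u

theorem cons38 : Data.pres38.consB = true := by decide +kernel

theorem bound38 : Data.pres38.boundB = true := by
  have h := cons38
  simp only [Pres.consB, Bool.and_eq_true] at h
  exact h.1

theorem central38 : ((List.range 38).all fun i => (List.range (i + 1)).all fun j =>
    Nat.blt i 36 || (Data.pres38.W i j == if Nat.beq i j then [] else [i])) = true := by decide +kernel

variable {T : Type} [Group T] [Finite T] (M : Data.pres38.Model 0 T)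
variable {K : Type u} [Field K] [Fintype K] {φ : K ≃+* K} (F : Frob.Facts K 2 2 φ)
  (hK : Fintype.card K = 2 ^ 2) (ω : K) (hω : ω * ω = ω + 1)

local notation "TT" => Orth.tw (Twist.E6.orth F one_lt_two hK)

/-- The generators of the extension. -/
noncomputable def pg (k : ℕ) : ↥(TT).W × T := (gel F hK ω hω k, M.g k)

theorem wel_pg : ∀ w : List ℕ, wel (pg M F hK ω hω) w = (wel (gel F hK ω hω) w, wel M.g w)
  | [] => rfl
  | a :: w => by rw [wel_cons, wel_pg w, wel_cons, wel_cons]; rfl

theorem relPg : Data.pres38.RelsFrom (pg M F hK ω hω) 0 := fun i hi j hj h0 => by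
  rw [wel_pg, wel_pg, rel38 F hK ω hω i hi j hj h0, M.rel i hi j hj h0]

theorem strictPg : ∀ k < 38, pg M F hK ω hω k ∉ closure (pg M F hK ω hω '' {l | k < l ∧ l < 38}) := by
  intro k hk h
  refine M.strict k hk (Nat.zero_le k) ?_
  have h2 := mem_map_of_mem (MonoidHom.snd ↥(TT).W T) h
  rw [MonoidHom.map_closure, Set.image_image] at h2
  exact h2

/-- The extension of the unipotent group. -/
noncomputable def cov : Subgroup (↥(TT).W × T) := closure (pg M F hK ω hω '' {l | l < 38})

theorem pg_mem {k : ℕ} (hk : k < 38) : pg M F hK ω hω k ∈ cov M F hK ω hω := subset_closure ⟨k, hk, rfl⟩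

/-- The projection. -/
noncomputable def covHom : ↥(cov M F hK ω hω) →* ↥(TT).W :=
  (MonoidHom.fst _ _).comp (cov M F hK ω hω).subtype

theorem card_tail {d j : ℕ} (hj : j + d = 38) :
    Nat.card (closure (pg M F hK ω hω '' {l | j ≤ l ∧ l < 38})) = 2 ^ d :=
  Pres.card_from bound38 (relPg M F hK ω hω) (fun k hk _ => strictPg M F hK ω hω k hk) d j (Nat.zero_le j) hj

theorem card_cov : Nat.card (cov M F hK ω hω) = 2 ^ 38 := by
  rw [← card_tail M F hK ω hω (d := 38) (j := 0) rfl, cov,
    show {l : ℕ | 0 ≤ l ∧ l < 38} = {l | l < 38} by ext; simp]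

theorem gel_top {k : ℕ} (hk : 36 ≤ k) : gel F hK ω hω k = 1 := Subtype.ext (by
  show ev ω (gword k) = _
  rw [gword, List.getD_eq_default _ _ (show Data.gw.length ≤ k by
    rw [show Data.gw.length = 36 from rfl]; omega), ev_nil]
  rfl)

theorem range_cov : (covHom M F hK ω hω).range = uS (TT) C.Pos := by
  rw [covHom, MonoidHom.range_eq_map, ← map_map, ← MonoidHom.range_eq_map, range_subtype, cov,
    MonoidHom.map_closure, Set.image_image]
  exact closure_gel F hK ω hω (n := 38) (by norm_num)

theorem ker_cov (t : ↥(cov M F hK ω hω)) : covHom M F hK ω hω t = 1 ↔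
    (t : ↥(TT).W × T) ∈ closure (pg M F hK ω hω '' {l | 36 ≤ l ∧ l < 38}) := by
  set Z := closure (pg M F hK ω hω '' {l | 36 ≤ l ∧ l < 38}) with hZ
  have hZle : Z ≤ cov M F hK ω hω := closure_mono (Set.image_mono fun l hl => hl.2)
  have hle : Z.subgroupOf (cov M F hK ω hω) ≤ (covHom M F hK ω hω).ker := by
    intro x hx
    have hx' := mem_subgroupOf.1 hx
    have h2 := mem_map_of_mem (MonoidHom.fst ↥(TT).W T) hx'
    rw [hZ, MonoidHom.map_closure, Set.image_image] at h2
    have hbot : closure ((fun k => (MonoidHom.fst ↥(TT).W T) (pg M F hK ω hω k)) '' {l | 36 ≤ l ∧ l < 38}) = ⊥ := by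
      rw [eq_bot_iff, closure_le]
      rintro _ ⟨l, hl, rfl⟩
      exact gel_top F hK ω hω hl.1
    rw [hbot] at h2
    exact mem_bot.1 h2
  have heq : Z.subgroupOf (cov M F hK ω hω) = (covHom M F hK ω hω).ker := by
    refine eq_of_le_of_card_ge hle (le_of_eq ?_)
    have h := (covHom M F hK ω hω).ker.card_mul_index
    rw [index_ker, range_cov, card_U, card_cov, show (2 : ℕ) ^ 38 = 4 * 2 ^ 36 by norm_num] at h
    rw [Nat.eq_of_mul_eq_mul_right (by norm_num) h, Nat.card_congr (subgroupOfEquivOfLe hZle).toEquiv, hZ,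
      card_tail M F hK ω hω (d := 2) (j := 36) rfl]
    rfl
  rw [← MonoidHom.mem_ker, ← heq, mem_subgroupOf]

theorem card_ker : Nat.card (covHom M F hK ω hω).ker = 4 := by
  have h := (covHom M F hK ω hω).ker.card_mul_index
  rw [index_ker, range_cov, card_U, card_cov, show (2 : ℕ) ^ 38 = 4 * 2 ^ 36 by norm_num] at h
  exact Nat.eq_of_mul_eq_mul_right (by norm_num) h

theorem central_top {k : ℕ} (hk : 36 ≤ k) (hk' : k < 38) :
    (pg M F hK ω hω k) * (pg M F hK ω hω k) = 1 ∧
      ∀ x ∈ cov M F hK ω hω, Commute x (pg M F hK ω hω k) := by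
  have hc := central38
  simp only [List.all_eq_true, List.mem_range, Bool.or_eq_true, Nat.blt_eq, beq_iff_eq] at hc
  have hrel : ∀ i < 38, ∀ j < i, 36 ≤ i → Commute (pg M F hK ω hω i) (pg M F hK ω hω j) := by
    intro i hi j hj h36
    have e := relPg M F hK ω hω i hi j hj.le (Nat.zero_le j)
    have hw := (hc i hi j (by omega)).resolve_left (by omega)
    rw [if_neg (by simp; omega)] at hw
    rw [Pres.lhs, Pres.rhs, if_neg (by omega), hw] at e
    simp only [wel, List.map_cons, List.map_nil, List.prod_cons, List.prod_nil, mul_one] at e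
    exact e
  refine ⟨?_, fun x hx => ?_⟩
  · have e := relPg M F hK ω hω k hk' k le_rfl (Nat.zero_le k)
    have hw := (hc k hk' k (by omega)).resolve_left (by omega)
    rw [if_pos (by simp)] at hw
    rw [Pres.lhs, Pres.rhs, if_pos rfl, hw] at e
    simpa [wel] using e
  · have hle : cov M F hK ω hω ≤ centralizer {pg M F hK ω hω k} := by
      rw [cov, closure_le]
      rintro _ ⟨j, hj, rfl⟩
      rw [SetLike.mem_coe, mem_centralizer_singleton_iff]
      rcases lt_trichotomy j k with h | rfl | h
      · exact (hrel k hk' j h hk).symm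
      · rfl
      · exact hrel j hj k h (by omega)
    exact mem_centralizer_singleton_iff.1 (hle hx)

include M in
open Schur in
theorem strict36 : ∀ j < Data.pres.n,
    gel F hK ω hω j ∉ closure (gel F hK ω hω '' {l | j < l ∧ l < Data.pres.n}) := by
  intro j (hj : j < 36) h
  have hset : gel F hK ω hω '' {l | j < l ∧ l < Data.pres.n} =
      (MonoidHom.fst ↥(TT).W T) '' (pg M F hK ω hω '' {l | j < l ∧ l < 36}) := by
    rw [Set.image_image]; rfl
  rw [hset, ← MonoidHom.map_closure] at h
  obtain ⟨s, hs, hse⟩ := h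
  have hsub : closure (pg M F hK ω hω '' {l | j < l ∧ l < 36}) ≤
      closure (pg M F hK ω hω '' {l | j < l ∧ l < 38}) := closure_mono (Set.image_mono fun l hl => by
    have h1 : j < l ∧ l < 36 := hl
    exact ⟨h1.1, by omega⟩)
  have hjc : pg M F hK ω hω j ∈ cov M F hK ω hω := pg_mem M F hK ω hω (by omega)
  have hsc : s ∈ cov M F hK ω hω :=
    closure_mono (Set.image_mono fun l (hl : j < l ∧ l < 36) => show l < 38 by omega) hs
  have hk : covHom M F hK ω hω (⟨_, mul_mem hjc (inv_mem hsc)⟩ : ↥(cov M F hK ω hω)) = 1 := by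
    show (pg M F hK ω hω j).1 * s.1⁻¹ = 1
    rw [show s.1 = gel F hK ω hω j from hse]
    exact mul_inv_cancel _
  refine strictPg M F hK ω hω j (by omega) ?_
  have hz : pg M F hK ω hω j * s⁻¹ ∈ closure (pg M F hK ω hω '' {l | j < l ∧ l < 38}) :=
    closure_mono (Set.image_mono fun l hl => by
      have h1 : 36 ≤ l ∧ l < 38 := hl
      exact ⟨by omega, h1.2⟩) ((ker_cov M F hK ω hω _).1 hk)
  have := mul_mem hz (hsub hs)
  rwa [inv_mul_cancel_right] at this

end Cfsg.Agent.Lib.E6Mult45
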