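import Cfsg.Agent.Lib.F4Mult45.CertOk
import Cfsg.Agent.Lib.TwMult.E6Frame
import Cfsg.Agent.Lib.E6Mult45.Series
import Cfsg.Agent.S2108

/-!
Every stem extension of ²E₆(2) has kernel generated by two elements of order at most two, each a product of
two commutators of lifted root elements, and one element of order at most three.
-/

set_option autoImplicit false
set_option maxRecDepth 100000
set_option linter.unusedSectionVars false

namespace Cfsg.Agent.Lib.E6Mult45

open Cfsg.Lie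
open Cfsg.Agent.Lib.ChevStructure Cfsg.Agent.Lib.LieTwisted Cfsg.Agent.Lib.LieTwisted.Twist
open Cfsg.Agent.Lib.LieTwisted.Twist.E6 (C)
open Cfsg.Agent.Lib.TwMult (uS mem_uS)
open Cfsg.Agent.Lib.Schur
open Cfsg.Agent.Lib.Schur.Fusion (commutator_congr)
open scoped MatrixGroups commutatorElement

universe u

/-- A product of two commutators. -/
def yA {Γ : Type*} [Group Γ] (f : ℕ → Γ) : Γ := ⁅f 16, f 15⁆ * ⁅f 17, f 14⁆⁻¹

/-- Another product of two commutators. -/
def yB {Γ : Type*} [Group Γ] (f : ℕ → Γ) : Γ := ⁅f 18, f 16⁆ * ⁅f 19, f 17⁆⁻¹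

/-- Two generators commute. -/
def cmB (a b : ℕ) : Bool := eqW ([a, b].flatMap gword) ([b, a].flatMap gword)

/-- The commutator of two generators is the third. -/
def comB (a b c : ℕ) : Bool := eqW ([a, b, a, b].flatMap gword) ([c].flatMap gword)

theorem wit_facts : ([(15, 21), (15, 9), (14, 22), (14, 8), (31, 14), (31, 0), (31, 1)].all (fun x =>
      cmB x.1 x.2) &&
    [(21, 9, 29), (22, 8, 29), (14, 0, 18), (14, 1, 19), (16, 15, 29), (17, 14, 29), (18, 16, 31), (19, 17, 31)].all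
      fun x => comB x.1 x.2.1 x.2.2) = true := by decide +kernel

theorem word_facts : Data.pres.word 16 15 = [16, 29] ∧ Data.pres.word 17 14 = [17, 29] ∧
    Data.pres.word 18 16 = [18, 31] ∧ Data.pres.word 19 17 = [19, 31] := by decide +kernel

theorem conj_check : ((List.range Data.pres.conjs.length).all fun s => Nat.blt s 6 &&
    (List.range (Data.pres.conjs.getD s ([], [])).1.length).all fun k =>
      actB s ((Data.pres.conjs.getD s ([], [])).1.getD k []) ((Data.pres.conjs.getD s ([], [])).2.getD k [])) =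
    true := by decide +kernel

theorem sq_check : ((List.range 38).all fun k => eqW ([k, k].flatMap gword) []) = true := by decide +kernel

variable {K : Type u} [Field K] [Fintype K] {φ : K ≃+* K} (F : Frob.Facts K 2 2 φ)
  (hK : Fintype.card K = 2 ^ 2) (ω : K) (hω : ω * ω = ω + 1)

local notation "TT" => Orth.tw (Twist.E6.orth F one_lt_two hK)
local notation "gg" => gel F hK ω hω

theorem gel_sq (k : ℕ) : gg k * gg k = 1 := by
  by_cases hk : k < 38
  · have h := sq_check
    simp only [List.all_eq_true, List.mem_range] at h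
    have e := wel_congr F hK ω hω (v := [k, k]) (w := []) (h k hk)
    simpa [wel] using e
  · rw [gel_top F hK ω hω (by omega), mul_one]

theorem gel_inv (k : ℕ) : (gg k)⁻¹ = gg k := inv_eq_of_mul_eq_one_right (gel_sq F hK ω hω k)

theorem cmB_sound {a b : ℕ} (h : cmB a b = true) : Commute (gg a) (gg b) := by
  have e := wel_congr F hK ω hω (v := [a, b]) (w := [b, a]) h
  simp only [wel, List.map_cons, List.map_nil, List.prod_cons, List.prod_nil, mul_one] at e
  exact e

theorem comB_sound {a b c : ℕ} (h : comB a b c = true) : ⁅gg a, gg b⁆ = gg c := by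
  have e := wel_congr F hK ω hω (v := [a, b, a, b]) (w := [c]) h
  simp only [wel, List.map_cons, List.map_nil, List.prod_cons, List.prod_nil, mul_one] at e
  rw [commutatorElement_def, gel_inv, gel_inv, ← e]
  simp only [mul_assoc]

section Central

variable {Γ : Type u} [Group Γ] {σ : Γ →* ↥(Orth.tw (Twist.E6.orth F one_lt_two hK)).W} (hk : σ.ker ≤ Subgroup.center Γ)
  {A : ℕ → Γ} (hA : ∀ k, σ (A k) = gel F hK ω hω k)
include hk hA

omit hA in
theorem commute_of_map {x p p' : Γ} (he : σ p = σ p') (h : Commute x p) : Commute x p' := by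
  have hc : p⁻¹ * p' ∈ Subgroup.center Γ :=
    hk (by rw [MonoidHom.mem_ker, map_mul, map_inv, he, inv_mul_cancel])
  have := h.mul_right (show Commute x (p⁻¹ * p') from Subgroup.mem_center_iff.1 hc x)
  rwa [mul_inv_cancel_left] at this

theorem comm_wit {r a b c : ℕ} (h1 : cmB r a = true) (h2 : cmB r b = true) (h3 : comB a b c = true) :
    Commute (A r) (A c) := by
  refine commute_of_map F hK hk (p := ⁅A a, A b⁆) ?_ (mul_inv_eq_iff_eq_mul.1 ?_)
  · rw [map_commutatorElement, hA, hA, hA, comB_sound F hK ω hω h3]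
  · rw [conjugate_commutatorElement]
    refine commutator_congr hk ?_ ?_ <;> rw [map_mul, map_mul, map_inv, hA, hA]
    · rw [(cmB_sound F hK ω hω h1).eq, mul_inv_cancel_right]
    · rw [(cmB_sound F hK ω hω h2).eq, mul_inv_cancel_right]

theorem comm_sq {a b c : ℕ} (hab : comB a b c = true) (h : Commute (A a) (A c) ∨ Commute (A b) (A c)) :
    ⁅A a, A b⁆ * ⁅A a, A b⁆ = 1 := by
  have hsq : ∀ k, A k * A k ∈ Subgroup.center Γ := fun k =>
    hk (by rw [MonoidHom.mem_ker, map_mul, hA, gel_sq])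
  have hi : σ (A c) = σ ⁅A a, A b⁆ := by rw [map_commutatorElement, hA, hA, hA, comB_sound F hK ω hω hab]
  rcases h with h | h
  · have e : ⁅A a * A a, A b⁆ = 1 :=
      commutatorElement_eq_one_iff_commute.2 ((Subgroup.mem_center_iff.1 (hsq a) (A b)).symm)
    rw [commutatorElement_mul_left_eq_conj_mul, (commute_of_map F hK hk hi h).eq, mul_inv_cancel_right] at e
    exact e
  · have e : ⁅A b * A b, A a⁆ = 1 :=
      commutatorElement_eq_one_iff_commute.2 ((Subgroup.mem_center_iff.1 (hsq b) (A a)).symm)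
    rw [commutatorElement_mul_left_eq_conj_mul, ← commutatorElement_inv (A a) (A b),
      (commute_of_map F hK hk hi h).inv_right.eq, mul_inv_cancel_right, ← mul_inv_rev, inv_eq_one] at e
    exact e

theorem y_facts : (σ (yA A) = 1 ∧ yA A * yA A = 1) ∧ (σ (yB A) = 1 ∧ yB A * yB A = 1) := by
  have h := wit_facts
  simp only [List.all_cons, List.all_nil, Bool.and_eq_true, and_true] at h
  obtain ⟨⟨c1, c2, c3, c4, c5, c6, c7⟩, m1, m2, m3, m4, p, p', r, r'⟩ := h
  have hw15 := comm_wit F hK ω hω hk hA c1 c2 m1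
  have hw14 := comm_wit F hK ω hω hk hA c3 c4 m2
  have hw18 := comm_wit F hK ω hω hk hA c5 c6 m3
  have hw19 := comm_wit F hK ω hω hk hA c5 c7 m4
  have key : ∀ {a b a' b' c : ℕ}, comB a b c = true → comB a' b' c = true →
      ⁅A a, A b⁆ * ⁅A a, A b⁆ = 1 → ⁅A a', A b'⁆ * ⁅A a', A b'⁆ = 1 →
      σ (⁅A a, A b⁆ * ⁅A a', A b'⁆⁻¹) = 1 ∧
        (⁅A a, A b⁆ * ⁅A a', A b'⁆⁻¹) * (⁅A a, A b⁆ * ⁅A a', A b'⁆⁻¹) = 1 := by
    intro a b a' b' c h1 h2 s1 s2
    set P := ⁅A a, A b⁆ with hP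
    set Q := ⁅A a', A b'⁆ with hQ
    have iP : σ P = gg c := by rw [hP, map_commutatorElement, hA, hA, comB_sound F hK ω hω h1]
    have iQ : σ Q = gg c := by rw [hQ, map_commutatorElement, hA, hA, comB_sound F hK ω hω h2]
    refine ⟨by rw [map_mul, map_inv, iP, iQ, mul_inv_cancel], ?_⟩
    have hc : Commute P Q := commute_of_map F hK hk (iP.trans iQ.symm) (Commute.refl P)
    rw [hc.inv_right.symm.mul_mul_mul_comm, s1, one_mul, ← mul_inv_rev, s2, inv_one]
  exact ⟨key p p' (comm_sq F hK ω hω hk hA p (Or.inr hw15)) (comm_sq F hK ω hω hk hA p' (Or.inr hw14)),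
    key r r' (comm_sq F hK ω hω hk hA r (Or.inl hw18.symm)) (comm_sq F hK ω hω hk hA r' (Or.inl hw19.symm))⟩

end Central

/-- The index of the unipotent group is odd. -/
theorem index_odd (e : (TT).W = Cfsg.Lie.twistedE6 K 2) : Odd (uS (TT) C.Pos).index := by
  rw [← Nat.not_even_iff_odd, even_iff_two_dvd]
  exact Cfsg.Agent.S2108.index_coprime (Nat.prime_two.isPrimePow) hK F e Nat.prime_two dvd_rfl

theorem card_not_dvd (e : (TT).W = Cfsg.Lie.twistedE6 K 2) : ¬ 2 ^ (36 + 1) ∣ Nat.card ↥(TT).W := by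
  rw [← (uS (TT) C.Pos).card_mul_index, card_U F hK, pow_succ]
  intro h
  have := Nat.dvd_of_mul_dvd_mul_left (by norm_num) h
  exact Nat.not_even_iff_odd.2 (index_odd F hK e) (even_iff_two_dvd.2 this)

section Kernel

variable (e : (Orth.tw (Twist.E6.orth F one_lt_two hK)).W = Cfsg.Lie.twistedE6 K 2)
variable {Γ : Type u} [Group Γ] [Finite Γ] {σ : Γ →* ↥(Orth.tw (Twist.E6.orth F one_lt_two hK)).W} (hσ : Cfsg.IsStemExtension σ)
include e hσ

omit e in
theorem y_congr {f f' : ℕ → Γ} (h : ∀ k, σ (f k) = σ (f' k)) : yA f = yA f' ∧ yB f = yB f' := by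
  constructor
  · rw [yA, yA, commutator_congr hσ.2.1 (h 16) (h 15), commutator_congr hσ.2.1 (h 17) (h 14)]
  · rw [yB, yB, commutator_congr hσ.2.1 (h 18) (h 16), commutator_congr hσ.2.1 (h 19) (h 17)]

/-- No stem extension with kernel of order two has both products trivial. -/
theorem false_two (hcard : Nat.card σ.ker = 2) {f : ℕ → Γ} (hf : ∀ k, σ (f k) = gg k)
    (hya : yA f = 1) (hyb : yB f = 1) : False := by
  obtain ⟨T, _, ⟨M⟩⟩ := Pres.exists_model cons38 38 0 rfl
  have := M.fin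
  refine F4Mult45.false_of_cert Data.pres (show Nat.Prime 2 from Nat.prime_two) PcCollect.maskVec gg
    (eqs := Data.eqs) (extra := Data.extra) (combos := Data.combos) (by decide +kernel) (rel36 F hK ω hω)
    (strict36 M F hK ω hω) ?_ (card_not_dvd F hK e) σ hσ hcard ?_
  · intro uv huv
    obtain ⟨s, hs, rfl⟩ := List.getElem_of_mem huv
    have h := conj_check
    simp only [List.all_eq_true, List.mem_range, Bool.and_eq_true, Nat.blt_eq] at h
    obtain ⟨hs', h⟩ := h s hs
    rw [List.getD_eq_getElem _ _ hs] at h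
    exact ⟨yel F hK ω hω s, fun k hk => act_sound F hK ω hω hs' (h k hk)⟩
  intro G₀ Z tv hG₀ hZ hσZ hinj hrel
  have hZc : ∀ a (g : Γ), g * Z a = Z a * g := fun a g => Subgroup.mem_center_iff.1 (hσ.2.1 (hσZ a)) g
  have hZ0 : Z 0 = 1 := PcCollect.Data.Z_zero Data.pres Z hZ
  obtain ⟨ca, cb⟩ := y_congr F hK hσ (f := G₀) (f' := f) fun k => (hG₀ k).trans (hf k).symm
  rw [hya] at ca
  rw [hyb] at cb
  have key : ∀ i j i' j' c : ℕ, i < 36 → j < i → i' < 36 → j' < i' → Data.pres.word i j = [i, c] →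
      Data.pres.word i' j' = [i', c] → ⁅G₀ i, G₀ j⁆ * ⁅G₀ i', G₀ j'⁆⁻¹ = 1 →
      tv (PcCollect.pidx i j) + tv (PcCollect.pidx i' j') = 0 := by
    intro i j i' j' c hi hj hi' hj' hw hw' hy
    have comm_tail : ∀ i < 36, ∀ j < i, Data.pres.word i j = [i, c] →
        ⁅G₀ i, G₀ j⁆ = Z (tv (PcCollect.pidx i j)) * G₀ c := by
      intro i hi j hj hW
      have h := hrel i hi j hj.le
      rw [PcCollect.Data.lhs, PcCollect.Data.rhs, if_neg (by omega), if_neg (by omega), hW] at h
      simp only [PcCollect.Data.el, List.map_cons, List.map_nil, List.prod_cons, List.prod_nil, mul_one] at h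
      rw [commutator_congr hσ.2.1 (show σ (G₀ i) = σ (G₀ i)⁻¹ by rw [map_inv, hG₀, gel_inv])
        (show σ (G₀ j) = σ (G₀ j)⁻¹ by rw [map_inv, hG₀, gel_inv]), commutatorElement_def, inv_inv,
        inv_inv, mul_assoc, h, ← hZc _ (G₀ j * _), ← mul_assoc ((G₀ i)⁻¹ * (G₀ j)⁻¹),
        show (G₀ i)⁻¹ * (G₀ j)⁻¹ * (G₀ j * (G₀ i * G₀ c)) = G₀ c by group, hZc]
    rw [comm_tail i hi j hj hw, comm_tail i' hi' j' hj' hw', mul_inv_rev, ← mul_assoc, mul_inv_cancel_right,
      mul_inv_eq_one] at hy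
    rw [hinj hy]
    exact CharTwo.add_self_eq_zero _
  obtain ⟨w1, w2, w3, w4⟩ := word_facts
  have t1 := key 16 15 17 14 29 (by norm_num) (by norm_num) (by norm_num) (by norm_num) w1 w2 ca
  have t2 := key 18 16 19 17 31 (by norm_num) (by norm_num) (by norm_num) (by norm_num) w3 w4 cb
  intro x hx
  rw [show Data.extra = [PcCollect.maskVec.ofList [PcCollect.pidx 16 15, PcCollect.pidx 17 14],
    PcCollect.maskVec.ofList [PcCollect.pidx 18 16, PcCollect.pidx 19 17]] by decide +kernel] at hx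
  rcases List.mem_cons.1 hx with rfl | hx
  · refine (PcCollect.Vec.dot_ofList PcCollect.maskVec tv _).trans ?_
    show tv _ + (tv _ + 0) = 0
    rw [add_zero]
    exact t1
  · rw [List.mem_singleton.1 hx]
    refine (PcCollect.Vec.dot_ofList PcCollect.maskVec tv _).trans ?_
    show tv _ + (tv _ + 0) = 0
    rw [add_zero]
    exact t2

end Kernel

section Quotient

variable (e : (Orth.tw (Twist.E6.orth F one_lt_two hK)).W = Cfsg.Lie.twistedE6 K 2)
variable {Γ : Type u} [Group Γ] [Finite Γ] {σ : Γ →* ↥(Orth.tw (Twist.E6.orth F one_lt_two hK)).W} (hσ : Cfsg.IsStemExtension σ)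
include hσ

omit [Finite Γ] in
theorem quot_stem {N : Subgroup Γ} (hN : N ≤ σ.ker) [N.Normal] :
    Cfsg.IsStemExtension (QuotientGroup.lift N σ hN) ∧
      (QuotientGroup.lift N σ hN).ker = σ.ker.map (QuotientGroup.mk' N) := by
  have hker : (QuotientGroup.lift N σ hN).ker = σ.ker.map (QuotientGroup.mk' N) :=
    QuotientGroup.ker_lift _ _ _
  refine ⟨⟨fun g => ?_, ?_, ?_⟩, hker⟩
  · obtain ⟨x, rfl⟩ := hσ.1 g
    exact ⟨x, rfl⟩
  · rw [hker]
    rintro _ ⟨c, hc, rfl⟩
    rw [Subgroup.mem_center_iff]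
    intro g
    obtain ⟨g, rfl⟩ := QuotientGroup.mk_surjective g
    exact congrArg (QuotientGroup.mk' N) (Subgroup.mem_center_iff.1 (hσ.2.1 hc) g)
  · rw [hker]
    refine (Subgroup.map_mono hσ.2.2).trans ?_
    rw [commutator_def, Subgroup.map_commutator, commutator_def]
    exact Subgroup.commutator_mono le_top le_top

include e in
/-- With both products trivial the kernel is of order dividing three. -/
theorem card_dvd_three {f : ℕ → Γ} (hf : ∀ k, σ (f k) = gg k) (hya : yA f = 1) (hyb : yB f = 1) :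
    Nat.card σ.ker ∣ 3 := by
  haveI : Fact (Nat.Prime 2) := ⟨Nat.prime_two⟩
  haveI := charP_of_card_eq_prime_pow (R := K) hK
  refine (TwMult.E6.card_ker_dvd F one_lt_two hK Nat.prime_two (e := 1) rfl hσ ?_).trans
    (Nat.gcd_dvd_left 3 _)
  refine Nat.prime_two.coprime_iff_not_dvd.2 fun hd => ?_
  letI : CommGroup σ.ker :=
    { (inferInstance : Group σ.ker) with
      mul_comm := fun a b => Subtype.ext (Subgroup.mem_center_iff.1 (hσ.2.1 b.2) a) }
  obtain ⟨z, hz⟩ := exists_prime_orderOf_dvd_card' (G := σ.ker) 2 hd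
  have hsq : (powMonoidHom 2 : σ.ker →* σ.ker).range ≠ ⊤ := by
    intro htop
    have hsurj := MonoidHom.range_eq_top.1 htop
    have hz1 : z = 1 := Finite.injective_iff_surjective.2 hsurj (a₁ := z) (a₂ := 1) (by
      show z ^ 2 = 1 ^ 2
      rw [one_pow]
      exact orderOf_dvd_iff_pow_eq_one.1 (dvd_of_eq hz))
    rw [hz1, orderOf_one] at hz
    exact absurd hz (by norm_num)
  obtain ⟨L, hL, hle⟩ := (eq_top_or_exists_le_coatom (powMonoidHom 2 : σ.ker →* σ.ker).range).resolve_left hsq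
  have hidx : L.index = 2 := by
    obtain ⟨a, ha⟩ : ∃ a, a ∉ L := by
      by_contra hh
      exact hL.1 (eq_top_iff.2 fun x _ => not_not.1 fun hx => hh ⟨x, hx⟩)
    rw [Subgroup.index_eq_two_iff]
    refine ⟨a, fun b => ?_⟩
    have hsqb : ∀ b : σ.ker, b * b ∈ L := fun b => hle ⟨b, pow_two b⟩
    have htop : L ⊔ Subgroup.zpowers a = ⊤ := hL.2 _ (lt_of_le_of_ne le_sup_left fun h =>
      ha (h.symm ▸ Subgroup.mem_sup_right (Subgroup.mem_zpowers a)))
    obtain ⟨x, hx, y, hy, rfl⟩ := Subgroup.mem_sup.1 (htop.symm ▸ Subgroup.mem_top b)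
    obtain ⟨k, rfl⟩ := Subgroup.mem_zpowers_iff.1 hy
    rcases Int.even_or_odd k with ⟨l, rfl⟩ | ⟨l, rfl⟩
    · refine Or.inr ⟨mul_mem hx ?_, fun h => ha ?_⟩
      · rw [zpow_add]; exact hsqb _
      · have h2 := mul_mem (inv_mem (mul_mem hx (show a ^ (l + l) ∈ L by rw [zpow_add]; exact hsqb _))) h
        rwa [inv_mul_cancel_left] at h2
    · have h1 : a ^ (2 * l + 1) * a ∈ L := by
        rw [← zpow_add_one, show 2 * l + 1 + 1 = (l + 1) + (l + 1) by ring, zpow_add]
        exact hsqb _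
      refine Or.inl ⟨by rw [mul_assoc]; exact mul_mem hx h1, fun h => ha ?_⟩
      have h2 := mul_mem (inv_mem h) (mul_mem hx h1)
      rwa [← mul_assoc x, inv_mul_cancel_left] at h2
  set N : Subgroup Γ := L.map σ.ker.subtype with hN
  have hNk : N ≤ σ.ker := by rintro _ ⟨c, -, rfl⟩; exact c.2
  have : N.Normal := ⟨fun c hc g => by
    rwa [Subgroup.mem_center_iff.1 (hσ.2.1 (hNk hc)) g, mul_inv_cancel_right]⟩
  obtain ⟨hτ, hker⟩ := quot_stem F hK hσ hNk
  have hcard : Nat.card (QuotientGroup.lift N σ hNk).ker = 2 := by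
    have hrange : σ.ker.map (QuotientGroup.mk' N) =
        ((QuotientGroup.mk' N).comp σ.ker.subtype).range := by
      rw [MonoidHom.range_eq_map, ← Subgroup.map_map, ← MonoidHom.range_eq_map, Subgroup.range_subtype]
    rw [hker, hrange, ← Subgroup.index_ker]
    refine Eq.trans (congrArg Subgroup.index ?_) hidx
    ext c
    rw [MonoidHom.mem_ker, MonoidHom.comp_apply, ← MonoidHom.mem_ker, QuotientGroup.ker_mk']
    exact ⟨fun ⟨d, hd, hdc⟩ => (Subtype.ext hdc : d = c) ▸ hd, fun hc => ⟨c, hc, rfl⟩⟩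
  refine false_two F hK ω hω e hτ hcard (f := fun k => QuotientGroup.mk' N (f k)) hf ?_ ?_
  · rw [show yA (fun k => QuotientGroup.mk' N (f k)) = QuotientGroup.mk' N (yA f) by
      simp only [yA, map_mul, map_inv, map_commutatorElement], hya, map_one]
  · rw [show yB (fun k => QuotientGroup.mk' N (f k)) = QuotientGroup.mk' N (yB f) by
      simp only [yB, map_mul, map_inv, map_commutatorElement], hyb, map_one]

end Quotient

include ω hω in
/-- The kernel of a stem extension is a quotient of `Z₃ × Z₂ × Z₂`. -/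
theorem ker_bound (e : (TT).W = Cfsg.Lie.twistedE6 K 2) {Γ : Type u} [Group Γ] [Finite Γ]
    {σ : Γ →* ↥(TT).W} (hσ : Cfsg.IsStemExtension σ) :
    ∃ π : Multiplicative (ZMod 3 × ZMod 2 × ZMod 2) →* σ.ker, Function.Surjective π := by
  choose f hf using fun k => hσ.1 (gel F hK ω hω k)
  obtain ⟨⟨ha1, ha2⟩, hb1, hb2⟩ := y_facts F hK ω hω hσ.2.1 hf
  letI : CommGroup σ.ker :=
    { (inferInstance : Group σ.ker) with
      mul_comm := fun a b => Subtype.ext (Subgroup.mem_center_iff.1 (hσ.2.1 b.2) a) }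
  set a : σ.ker := ⟨yA f, ha1⟩
  set b : σ.ker := ⟨yB f, hb1⟩
  have ha : a ^ 2 = 1 := by rw [pow_two]; exact Subtype.ext ha2
  have hb : b ^ 2 = 1 := by rw [pow_two]; exact Subtype.ext hb2
  set L : Subgroup σ.ker := Subgroup.closure {a, b} with hL
  have hL2 : ∀ x ∈ L, ∃ i j : ℕ, x = a ^ i * b ^ j := fun x hx => by
    obtain ⟨i, j, rfl⟩ := Subgroup.mem_closure_pair.1 hx
    refine ⟨(i % 2).toNat, (j % 2).toNat, ?_⟩
    rw [← zpow_natCast, ← zpow_natCast, Int.toNat_of_nonneg (Int.emod_nonneg _ two_ne_zero),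
      Int.toNat_of_nonneg (Int.emod_nonneg _ two_ne_zero)]
    exact congrArg₂ (· * ·) (zpow_eq_zpow_emod' i ha) (zpow_eq_zpow_emod' j hb)
  set N : Subgroup Γ := L.map σ.ker.subtype with hN
  have hNk : N ≤ σ.ker := by rintro _ ⟨c, -, rfl⟩; exact c.2
  have : N.Normal := ⟨fun c hc g => by
    rwa [Subgroup.mem_center_iff.1 (hσ.2.1 (hNk hc)) g, mul_inv_cancel_right]⟩
  obtain ⟨hτ, hker⟩ := quot_stem F hK hσ hNk
  have hd := card_dvd_three F hK ω hω e hτ (f := fun k => QuotientGroup.mk' N (f k)) hf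
    (by rw [show yA (fun k => QuotientGroup.mk' N (f k)) = QuotientGroup.mk' N (yA f) by
          simp only [yA, map_mul, map_inv, map_commutatorElement]]
        exact (QuotientGroup.eq_one_iff _).2 ⟨a, Subgroup.subset_closure (Set.mem_insert _ _), rfl⟩)
    (by rw [show yB (fun k => QuotientGroup.mk' N (f k)) = QuotientGroup.mk' N (yB f) by
          simp only [yB, map_mul, map_inv, map_commutatorElement]]
        exact (QuotientGroup.eq_one_iff _).2
          ⟨b, Subgroup.subset_closure (Set.mem_insert_of_mem _ rfl), rfl⟩)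
  set χ : σ.ker →* σ.ker ⧸ L := QuotientGroup.mk' L
  have hcard : Nat.card (σ.ker ⧸ L) ∣ 3 := by
    have hrange : σ.ker.map (QuotientGroup.mk' N) =
        ((QuotientGroup.mk' N).comp σ.ker.subtype).range := by
      rw [MonoidHom.range_eq_map, ← Subgroup.map_map, ← MonoidHom.range_eq_map, Subgroup.range_subtype]
    rw [hker, hrange, ← Subgroup.index_ker] at hd
    rw [← Subgroup.index_eq_card]
    convert hd using 2
    ext c
    rw [MonoidHom.mem_ker, MonoidHom.comp_apply, ← MonoidHom.mem_ker, QuotientGroup.ker_mk']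
    exact ⟨fun hc => ⟨c, hc, rfl⟩, fun ⟨d, hd, hdc⟩ => (Subtype.ext hdc : d = c) ▸ hd⟩
  haveI : Fact (Nat.Prime 3) := ⟨Nat.prime_three⟩
  obtain ⟨w, hw, hgen⟩ : ∃ w : σ.ker, w ^ 3 = 1 ∧ ∀ x, ∃ k : ℕ, (w ^ k)⁻¹ * x ∈ L := by
    have hcyc : IsCyclic (σ.ker ⧸ L) := by
      rcases (Nat.dvd_prime Nat.prime_three).1 hcard with h | h
      · haveI : Subsingleton (σ.ker ⧸ L) := (Nat.card_eq_one_iff_unique.1 h).1
        infer_instance
      · exact isCyclic_of_prime_card h
    obtain ⟨g, hg⟩ := IsCyclic.exists_generator (α := σ.ker ⧸ L)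
    obtain ⟨v, rfl⟩ := QuotientGroup.mk_surjective g
    have h3 : (QuotientGroup.mk v : σ.ker ⧸ L) ^ 3 = 1 :=
      orderOf_dvd_iff_pow_eq_one.1 ((orderOf_dvd_natCard _).trans hcard)
    have hv3 : v ^ 3 ∈ L := (QuotientGroup.eq_one_iff _).1 (by rw [QuotientGroup.mk_pow]; exact h3)
    obtain ⟨i, j, hij⟩ := hL2 _ hv3
    have hv6 : v ^ 6 = 1 := by
      rw [show (6 : ℕ) = 3 * 2 from rfl, pow_mul, hij, mul_pow, ← pow_mul, ← pow_mul, mul_comm i, mul_comm j,
        pow_mul, pow_mul, ha, hb, one_pow, one_pow, one_mul]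
    refine ⟨v ^ 4, by rw [← pow_mul, show 4 * 3 = 6 * 2 from rfl, pow_mul, hv6, one_pow], fun x => ?_⟩
    obtain ⟨k, hk⟩ := (mem_powers_iff_mem_zpowers).2 (hg (QuotientGroup.mk x))
    refine ⟨k, QuotientGroup.eq.1 ?_⟩
    rw [QuotientGroup.mk_pow, QuotientGroup.mk_pow, show (4 : ℕ) = 3 + 1 from rfl, pow_succ, h3, one_mul]
    exact hk
  refine ⟨⟨⟨fun t => w ^ (Multiplicative.toAdd t).1.val *
    (a ^ (Multiplicative.toAdd t).2.1.val * b ^ (Multiplicative.toAdd t).2.2.val), by simp⟩,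
    fun s t => ?_⟩, fun x => ?_⟩
  · show w ^ ((Multiplicative.toAdd s).1 + (Multiplicative.toAdd t).1).val *
      (a ^ ((Multiplicative.toAdd s).2.1 + (Multiplicative.toAdd t).2.1).val *
        b ^ ((Multiplicative.toAdd s).2.2 + (Multiplicative.toAdd t).2.2).val) = _
    rw [ZMod.val_add, ← pow_eq_pow_mod _ hw, ZMod.val_add, ← pow_eq_pow_mod _ ha, ZMod.val_add,
      ← pow_eq_pow_mod _ hb, pow_add, pow_add, pow_add, mul_mul_mul_comm (a ^ _) (a ^ _),
      mul_mul_mul_comm (w ^ _) (w ^ _)]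
  · obtain ⟨k, hk⟩ := hgen x
    obtain ⟨i, j, hij⟩ := hL2 _ hk
    refine ⟨Multiplicative.ofAdd ((k : ZMod 3), (i : ZMod 2), (j : ZMod 2)), ?_⟩
    show w ^ (k : ZMod 3).val * (a ^ (i : ZMod 2).val * b ^ (j : ZMod 2).val) = x
    rw [ZMod.val_natCast, ZMod.val_natCast, ZMod.val_natCast, ← pow_eq_pow_mod _ hw, ← pow_eq_pow_mod _ ha,
      ← pow_eq_pow_mod _ hb, ← hij, mul_inv_cancel_left]

end Cfsg.Agent.Lib.E6Mult45
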