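import Cfsg.Agent.Lib.F4Mult45.Transfer

/-!
Corestriction of a central extension with elementary abelian kernel of exponent two: such an extension of a
subgroup of odd index, stable under the conjugations of the group, gives a stem extension of the whole group
with the same kernel.
-/

set_option autoImplicit false

namespace Cfsg.Agent.Lib.E6Mult45

open Cfsg.Agent.Lib.F4Mult45 (Dom mem_Dom base sec sec_mem base_smul tr Mono ent proj ent_spec ent_mul ext_ent
  mkMono proj_surjective)

universe u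

variable {G : Type u} [Group G] {T : Type u} [Group T] (π : T →* G)

/-- Conjugation by `g` lifts to the extension where it makes sense, fixing the kernel. -/
def StableK (g : G) : Prop :=
  ∃ θ : T → T, (∀ x ∈ Dom π g, π (θ x) = g * π x * g⁻¹) ∧
    (∀ x ∈ Dom π g, ∀ y ∈ Dom π g, θ (x * y) = θ x * θ y) ∧ ∀ z ∈ π.ker, θ z = z

/-- Lifts compose with inner automorphisms on both sides. -/
theorem stableK_mul_mul (hc : π.ker ≤ Subgroup.center T) {g u v : G} (hu : u ∈ π.range) (hv : v ∈ π.range)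
    (h : StableK π g) : StableK π (u * g * v) := by
  obtain ⟨a, rfl⟩ := hu
  obtain ⟨b, rfl⟩ := hv
  obtain ⟨θ, h1, h2, h3⟩ := h
  have hz : ∀ z ∈ π.ker, ∀ t : T, t * z * t⁻¹ = z := fun z hz t => by
    rw [Subgroup.mem_center_iff.1 (hc hz) t, mul_inv_cancel_right]
  have hdom : ∀ x ∈ Dom π (π a * g * π b), b * x * b⁻¹ ∈ Dom π g := by
    intro x hx
    rw [mem_Dom] at hx ⊢
    have := mul_mem (mul_mem (inv_mem (MonoidHom.mem_range.2 ⟨a, rfl⟩)) hx) (MonoidHom.mem_range.2 ⟨a, rfl⟩)
    simp only [map_mul, map_inv]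
    convert this using 1
    group
  refine ⟨fun x => a * θ (b * x * b⁻¹) * a⁻¹, fun x hx => ?_, fun x hx y hy => ?_, fun z hzk => ?_⟩
  · simp only [map_mul, map_inv, h1 _ (hdom x hx)]
    group
  · simp only [show b * (x * y) * b⁻¹ = (b * x * b⁻¹) * (b * y * b⁻¹) by group,
      h2 _ (hdom x hx) _ (hdom y hy)]
    group
  · simp only [hz z hzk b, h3 z hzk, hz z hzk a]

/-- Lifts compose when the right factor carries the domain of the product into the domain of the left. -/
theorem stableK_comp {g h : G} (hg : StableK π g) {θ : T → T}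
    (h1 : ∀ x ∈ Dom π (g * h), π (θ x) = h * π x * h⁻¹)
    (h2 : ∀ x ∈ Dom π (g * h), ∀ y ∈ Dom π (g * h), θ (x * y) = θ x * θ y)
    (h3 : ∀ z ∈ π.ker, θ z = z) : StableK π (g * h) := by
  obtain ⟨η, g1, g2, g3⟩ := hg
  have hdom : ∀ x ∈ Dom π (g * h), θ x ∈ Dom π g := by
    intro x hx
    have hx' := hx
    rw [mem_Dom] at hx' ⊢
    rw [h1 x hx]
    convert hx' using 1
    group
  refine ⟨fun x => η (θ x), fun x hx => ?_, fun x hx y hy => ?_, fun z hz => ?_⟩
  · show π (η (θ x)) = _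
    rw [g1 _ (hdom x hx), h1 x hx]
    group
  · show η (θ (x * y)) = η (θ x) * η (θ y)
    rw [h2 x hx y hy, g2 _ (hdom x hx) _ (hdom y hy)]
  · show η (θ z) = z
    rw [h3 z hz, g3 z hz]

/-- The stem extension. -/
theorem exists_stem_transfer [Finite G] [Finite T] (hc : π.ker ≤ Subgroup.center T)
    (hsq : ∀ z ∈ π.ker, z * z = 1) (hodd : Odd π.range.index) (hst : ∀ g, StableK π g)
    (hcom : π.ker ≤ commutator T) :
    ∃ (Γ : Type u) (_ : Group Γ) (_ : Finite Γ) (σ : Γ →* G),
      Cfsg.IsStemExtension σ ∧ Nonempty (σ.ker ≃* π.ker) := by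
  classical
  have : Fintype (F4Mult45.Cos π) := Fintype.ofFinite _
  choose θ hθ1 hθ2 hθ3 using hst
  letI : CommGroup π.ker :=
    { (inferInstance : Group π.ker) with
      mul_comm := fun a b => Subtype.ext (Subgroup.mem_center_iff.1 (hc b.2) a) }
  -- the lift of the subgroup
  let f : T → F4Mult45.Cos π → T := fun p x => θ ((base π x).out)⁻¹ ((sec π (π p • x))⁻¹ * p * sec π x)
  have hf : ∀ p x, π (f p x) = (tr π (π p • x))⁻¹ * π p * tr π x := by
    intro p x
    rw [hθ1 _ _ (sec_mem π p x), tr, tr, base_smul, inv_inv]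
    simp only [map_mul, map_inv]
    group
  have hfmul : ∀ p q x, f (p * q) x = f p (π q • x) * f q x := by
    intro p q x
    show θ _ _ = θ _ _ * θ _ _
    rw [base_smul, ← hθ2 _ _ (by have := sec_mem π p (π q • x); rwa [base_smul] at this) _ (sec_mem π q x),
      map_mul, mul_smul]
    congr 1
    group
  let Φ : T →* Mono π :=
    { toFun := fun p => mkMono π (π p) (f p) (hf p)
      map_one' := ext_ent π (by simp [proj, mkMono]) fun x => by
        show f 1 x * 1 = (1 : T)
        have := hfmul 1 1 x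
        rw [mul_one, map_one, one_smul, left_eq_mul] at this
        rw [this, mul_one]
      map_mul' := fun p q => ext_ent π (by simp [proj, mkMono]) fun x => by
        rw [ent_mul]
        show f (p * q) x * 1 = f p (π q • x) * 1 * (f q x * 1)
        rw [mul_one, mul_one, mul_one, hfmul] }
  have hΦz : ∀ z : π.ker, ∀ x, ent π (Φ z) x = z := by
    intro z x
    show θ _ _ * 1 = (z : T)
    have h' : (sec π x)⁻¹ * z * sec π x = z := by
      rw [mul_assoc, ← Subgroup.mem_center_iff.1 (hc z.2) (sec π x), inv_mul_cancel_left]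
    rw [show π (z : T) = 1 from z.2, one_smul, mul_one, h', hθ3 _ _ z.2]
  have hΦp : ∀ z : π.ker, proj π (Φ z) = 1 := fun z => z.2
  -- the product of the entries
  let toK : T → π.ker := fun t => if h : t ∈ π.ker then ⟨t, h⟩ else 1
  have htoK : ∀ z : π.ker, toK z = z := fun z => dif_pos z.2
  let χ : Mono π → π.ker := fun a => ∏ x : F4Mult45.Cos π, toK (ent π a x)
  have hentk : ∀ a : Mono π, proj π a = 1 → ∀ x, ent π a x ∈ π.ker := fun a ha x => by
    rw [MonoidHom.mem_ker, (ent_spec π a x).1, ha, one_smul, mul_one, inv_mul_cancel]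
  have hχ : ∀ a b : Mono π, proj π a = 1 → proj π b = 1 → χ (a * b) = χ a * χ b := by
    intro a b ha hb
    rw [← Finset.prod_mul_distrib]
    refine Finset.prod_congr rfl fun x _ => Subtype.ext ?_
    rw [ent_mul, hb, one_smul, Subgroup.coe_mul]
    simp only [toK, dif_pos (hentk a ha x), dif_pos (hentk b hb x),
      dif_pos (mul_mem (hentk a ha x) (hentk b hb x))]
  have hχ1 : χ 1 = 1 := by
    refine Finset.prod_eq_one fun x _ => ?_
    show toK (1 : T) = 1
    exact htoK 1
  have hχinv : ∀ a, proj π a = 1 → χ a⁻¹ = (χ a)⁻¹ := fun a ha => by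
    refine eq_inv_of_mul_eq_one_left ?_
    rw [← hχ a⁻¹ a (by rw [map_inv, ha, inv_one]) ha, inv_mul_cancel, hχ1]
  have hconj : ∀ g a : Mono π, proj π a = 1 → proj π (g * a * g⁻¹) = 1 ∧ χ (g * a * g⁻¹) = χ a := by
    intro g a ha
    have hp : proj π (g * a * g⁻¹) = 1 := by simp [ha]
    refine ⟨hp, ?_⟩
    refine Fintype.prod_equiv (MulAction.toPerm (proj π g)⁻¹) _ _ fun x => ?_
    show toK (ent π (g * a * g⁻¹) x) = toK (ent π a ((proj π g)⁻¹ • x))
    have e1 := ent_mul π (g * a * g⁻¹) g ((proj π g)⁻¹ • x)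
    rw [smul_inv_smul, inv_mul_cancel_right, ent_mul, ha, one_smul] at e1
    rw [Subgroup.mem_center_iff.1 (hc (hentk a ha ((proj π g)⁻¹ • x))) (ent π g _)] at e1
    rw [mul_right_cancel e1]
  let N : Subgroup (Mono π) :=
    { carrier := {a | proj π a = 1 ∧ χ a = 1}
      one_mem' := ⟨map_one _, hχ1⟩
      mul_mem' := fun {a b} ha hb => ⟨by rw [map_mul, ha.1, hb.1, one_mul],
        by rw [hχ a b ha.1 hb.1, ha.2, hb.2, mul_one]⟩
      inv_mem' := fun {a} ha => ⟨by rw [map_inv, ha.1, inv_one], by rw [hχinv a ha.1, ha.2, inv_one]⟩ }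
  have : N.Normal := ⟨fun a ha g => ⟨(hconj g a ha.1).1, (hconj g a ha.1).2.trans ha.2⟩⟩
  let σ : Mono π ⧸ N →* G := QuotientGroup.lift N (proj π) fun a ha => MonoidHom.mem_ker.2 ha.1
  have hχz : ∀ z : π.ker, χ (Φ z) = z := by
    intro z
    show (∏ x : F4Mult45.Cos π, toK (ent π (Φ z) x)) = z
    rw [Finset.prod_congr rfl fun x _ => by rw [hΦz z x, htoK z], Finset.prod_const, Finset.card_univ,
      ← Nat.card_eq_fintype_card, ← Subgroup.index_eq_card]
    obtain ⟨m, hm⟩ := hodd
    rw [hm, pow_succ, pow_mul, pow_two, show z * z = 1 from Subtype.ext (hsq _ z.2), one_pow, one_mul]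
  let ι : π.ker →* σ.ker :=
    ((QuotientGroup.mk' N).comp (Φ.comp π.ker.subtype)).codRestrict σ.ker fun z => hΦp z
  have hι : Function.Bijective ι := by
    refine ⟨(injective_iff_map_eq_one ι).2 fun z hz => ?_, fun y => ?_⟩
    · have h : Φ z ∈ N := (QuotientGroup.eq_one_iff _).1 (congrArg Subtype.val hz)
      rw [← hχz z]
      exact h.2
    · obtain ⟨y, hy⟩ := y
      obtain ⟨a, rfl⟩ := QuotientGroup.mk_surjective y
      have ha : proj π a = 1 := hy
      refine ⟨χ a, Subtype.ext (QuotientGroup.eq.2 ⟨?_, ?_⟩)⟩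
      · show proj π ((Φ (χ a : T))⁻¹ * a) = 1
        rw [map_mul, map_inv, hΦp, ha, inv_one, one_mul]
      · show χ ((Φ (χ a : T))⁻¹ * a) = 1
        rw [hχ _ _ (by rw [map_inv, hΦp, inv_one]) ha, hχinv _ (hΦp _), hχz, inv_mul_cancel]
  refine ⟨Mono π ⧸ N, inferInstance, inferInstance, σ, ⟨?_, ?_, ?_⟩, ⟨(MulEquiv.ofBijective ι hι).symm⟩⟩
  · intro g
    obtain ⟨a, rfl⟩ := proj_surjective π g
    exact ⟨QuotientGroup.mk a, rfl⟩
  · intro y hy
    rw [Subgroup.mem_center_iff]
    intro g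
    obtain ⟨a, rfl⟩ := QuotientGroup.mk_surjective y
    obtain ⟨g, rfl⟩ := QuotientGroup.mk_surjective g
    have ha : proj π a = 1 := hy
    rw [← mul_inv_eq_iff_eq_mul, ← QuotientGroup.mk_mul, ← QuotientGroup.mk_inv, ← QuotientGroup.mk_mul]
    obtain ⟨h1, h2⟩ := hconj g a ha
    refine QuotientGroup.eq.2 ⟨by rw [map_mul, map_inv, h1, ha, inv_one, one_mul], ?_⟩
    rw [hχ _ _ (by rw [map_inv, h1, inv_one]) ha, hχinv _ h1, h2, inv_mul_cancel]
  · intro y hy
    obtain ⟨z, hz⟩ := hι.2 ⟨y, hy⟩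
    rw [← show (ι z : Mono π ⧸ N) = y from congrArg Subtype.val hz]
    have h := Subgroup.mem_map_of_mem ((QuotientGroup.mk' N).comp Φ) (hcom z.2)
    rw [commutator_def, Subgroup.map_commutator] at h
    rw [commutator_def]
    exact Subgroup.commutator_mono le_top le_top h

end Cfsg.Agent.Lib.E6Mult45
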