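import Cfsg.Agent.Lib.E6Mult45.Lifts
import Cfsg.Agent.Lib.E6Mult45.Transfer
import Cfsg.Agent.S2108

/-!
The extension of the unipotent group of ²E₆(2) by two involutions is stable under conjugation, so it gives a
stem extension of ²E₆(2) with kernel a four-group.
-/

set_option autoImplicit false
set_option maxRecDepth 100000
set_option linter.unusedSectionVars false

namespace Cfsg.Agent.Lib.E6Mult45

open Cfsg.Lie
open Cfsg.Agent.Lib.ChevStructure Cfsg.Agent.Lib.LieTwisted Cfsg.Agent.Lib.LieTwisted.Twist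
open Cfsg.Agent.Lib.LieTwisted.Twist.E6 (C)
open Cfsg.Agent.Lib.TwMult (uS mem_uS uO)
open Cfsg.Agent.Lib.TwMult.E6 (Rn comm')
open Cfsg.Agent.Lib.F4Mult45 (Dom mem_Dom)
open scoped MatrixGroups commutatorElement

universe u

theorem orbit_check : ((List.range 4).all fun m =>
    Nat.beq ((Data.presSub m).n + if Nat.blt m 2 then 1 else 2) 38 &&
    (List.range (Data.presSub m).n).all fun k => (gword (dI m k)).all fun x =>
      Nat.blt 35 x.1 && Nat.blt x.1 72 && Nat.blt 35 ((Data.wTab.getD m []).getD x.1 0) &&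
        Nat.blt ((Data.wTab.getD m []).getD x.1 0) 72) = true ∧
    ([4, 5].all fun s => Nat.beq (Data.presSub s).n 38 &&
      (List.range 38).all fun k => Nat.beq (dI s k) k) = true := by decide +kernel

theorem comm_check : ((Data.pres38.W 16 15 == [16, 29]) && (Data.pres38.W 17 14 == [17, 29, 36]) &&
    (Data.pres38.W 18 16 == [18, 31]) && (Data.pres38.W 19 17 == [19, 31, 37])) = true := by decide +kernel

variable {T : Type} [Group T] [Finite T] (M : Data.pres38.Model 0 T)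
variable {K : Type u} [Field K] [Fintype K] {φ : K ≃+* K} (F : Frob.Facts K 2 2 φ)
  (hK : Fintype.card K = 2 ^ 2) (ω : K) (hω : ω * ω = ω + 1)

local notation "TT" => Orth.tw (Twist.E6.orth F one_lt_two hK)
local notation "cH" => covHom M F hK ω hω

theorem ker_center : (cH).ker ≤ Subgroup.center ↥(cov M F hK ω hω) := by
  intro z hz
  rw [Subgroup.mem_center_iff]
  intro x
  have hle : Subgroup.closure (pg M F hK ω hω '' {l | 36 ≤ l ∧ l < 38}) ≤
      Subgroup.centralizer {(x : ↥(TT).W × T)} := by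
    rw [Subgroup.closure_le]
    rintro _ ⟨l, hl, rfl⟩
    rw [SetLike.mem_coe, Subgroup.mem_centralizer_singleton_iff]
    exact ((central_top M F hK ω hω hl.1 hl.2).2 _ x.2).symm
  exact Subtype.ext (Subgroup.mem_centralizer_singleton_iff.1 (hle ((ker_cov M F hK ω hω z).1 hz))).symm

/-- The two kernel elements. -/
noncomputable def zk (k : ℕ) (hk : 36 ≤ k) (hk' : k < 38) : (cH).ker :=
  ⟨⟨pg M F hK ω hω k, pg_mem M F hK ω hω hk'⟩, gel_top F hK ω hω hk⟩

theorem ker_four : Nonempty ((cH).ker ≃* Multiplicative (ZMod 2 × ZMod 2)) := by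
  set a := zk M F hK ω hω 36 le_rfl (by norm_num) with ha
  set b := zk M F hK ω hω 37 (by norm_num) (by norm_num) with hb
  have ha2 : a ^ 2 = 1 := by
    rw [pow_two]; exact Subtype.ext (Subtype.ext (central_top M F hK ω hω (k := 36) le_rfl (by norm_num)).1)
  have hb2 : b ^ 2 = 1 := by
    rw [pow_two]
    exact Subtype.ext (Subtype.ext (central_top M F hK ω hω (k := 37) (by norm_num) (by norm_num)).1)
  have hab : Commute a b :=
    Subtype.ext ((Subgroup.mem_center_iff.1 (ker_center M F hK ω hω b.2)) a)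
  let f : Multiplicative (ZMod 2 × ZMod 2) →* (cH).ker :=
    { toFun := fun t => a ^ (Multiplicative.toAdd t).1.val * b ^ (Multiplicative.toAdd t).2.val
      map_one' := by simp
      map_mul' := fun s t => by
        show a ^ ((Multiplicative.toAdd s).1 + (Multiplicative.toAdd t).1).val *
          b ^ ((Multiplicative.toAdd s).2 + (Multiplicative.toAdd t).2).val = _
        rw [ZMod.val_add, ← pow_eq_pow_mod _ ha2, ZMod.val_add, ← pow_eq_pow_mod _ hb2, pow_add, pow_add]
        exact ((hab.pow_pow _ _).mul_mul_mul_comm _ _) }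
  have hsurj : Function.Surjective f := by
    intro z
    have hle : Subgroup.closure (pg M F hK ω hω '' {l | 36 ≤ l ∧ l < 38}) ≤
        f.range.map ((cov M F hK ω hω).subtype.comp (cH).ker.subtype) := by
      rw [Subgroup.closure_le]
      rintro _ ⟨l, hl, rfl⟩
      have hl' : l = 36 ∨ l = 37 := by
        have h1 : 36 ≤ l ∧ l < 38 := hl
        omega
      rcases hl' with rfl | rfl
      · exact ⟨a, ⟨Multiplicative.ofAdd (1, 0), by
          show a ^ (1 : ZMod 2).val * b ^ (0 : ZMod 2).val = a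
          rw [ZMod.val_one, ZMod.val_zero, pow_one, pow_zero, mul_one]⟩, rfl⟩
      · exact ⟨b, ⟨Multiplicative.ofAdd (0, 1), by
          show a ^ (0 : ZMod 2).val * b ^ (1 : ZMod 2).val = b
          rw [ZMod.val_one, ZMod.val_zero, pow_one, pow_zero, one_mul]⟩, rfl⟩
    obtain ⟨w, ⟨t, rfl⟩, hw⟩ := hle ((ker_cov M F hK ω hω z).1 z.2)
    exact ⟨t, Subtype.ext (Subtype.ext hw)⟩
  refine ⟨(MulEquiv.ofBijective f ((Nat.bijective_iff_surjective_and_card _).2 ⟨hsurj, ?_⟩)).symm⟩
  rw [card_ker, Nat.card_congr Multiplicative.toAdd, Nat.card_prod, Nat.card_zmod]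

theorem ker_commutator : (cH).ker ≤ commutator ↥(cov M F hK ω hω) := by
  let a : ∀ k, k < 38 → ↥(cov M F hK ω hω) := fun k hk => ⟨pg M F hK ω hω k, pg_mem M F hK ω hω hk⟩
  have key : ∀ i j i' j' c d : ℕ, j < i → i < 38 → j' < i' → i' < 38 → Data.pres38.W i j = [i, c] →
      Data.pres38.W i' j' = [i', c, d] → ∀ hd : d < 38, a d hd ∈ commutator ↥(cov M F hK ω hω) := by
    intro i j i' j' c d hj hi hj' hi' hw hw' hd
    have e := relPg M F hK ω hω i hi j hj.le (Nat.zero_le _)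
    have e' := relPg M F hK ω hω i' hi' j' hj'.le (Nat.zero_le _)
    rw [Pres.lhs, Pres.rhs, if_neg (by omega), hw] at e
    rw [Pres.lhs, Pres.rhs, if_neg (by omega), hw'] at e'
    simp only [wel, List.map_cons, List.map_nil, List.prod_cons, List.prod_nil, mul_one] at e e'
    have hc : c < 38 := by
      have := (Pres.bound bound38 (i := i) (j := j) (l := c) hi hj.le (by rw [hw]; simp)).2
      exact this
    have h : ⁅(a i hi)⁻¹, (a j (hj.trans hi))⁻¹⁆⁻¹ * ⁅(a i' hi')⁻¹, (a j' (hj'.trans hi'))⁻¹⁆ = a d hd := by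
      refine Subtype.ext ?_
      simp only [a, commutatorElement_def, inv_inv, Subgroup.coe_mul, Subgroup.coe_inv]
      rw [mul_assoc _ (pg M F hK ω hω i) (pg M F hK ω hω j), e,
        mul_assoc _ (pg M F hK ω hω i') (pg M F hK ω hω j'), e']
      group
    rw [← h, commutator_def]
    exact mul_mem (inv_mem (Subgroup.commutator_mem_commutator (Subgroup.mem_top _) (Subgroup.mem_top _)))
      (Subgroup.commutator_mem_commutator (Subgroup.mem_top _) (Subgroup.mem_top _))
  have hc := comm_check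
  simp only [Bool.and_eq_true, beq_iff_eq] at hc
  obtain ⟨⟨⟨h1, h2⟩, h3⟩, h4⟩ := hc
  intro z hz
  have hle : Subgroup.closure (pg M F hK ω hω '' {l | 36 ≤ l ∧ l < 38}) ≤
      (commutator ↥(cov M F hK ω hω)).map (cov M F hK ω hω).subtype := by
    rw [Subgroup.closure_le]
    rintro _ ⟨l, hl, rfl⟩
    have hl' : l = 36 ∨ l = 37 := by
      have h1 : 36 ≤ l ∧ l < 38 := hl
      omega
    rcases hl' with rfl | rfl
    · exact ⟨a 36 (by norm_num), key 16 15 17 14 29 36 (by norm_num) (by norm_num) (by norm_num) (by norm_num)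
        h1 h2 (by norm_num), rfl⟩
    · exact ⟨a 37 (by norm_num), key 18 16 19 17 31 37 (by norm_num) (by norm_num) (by norm_num) (by norm_num)
        h3 h4 (by norm_num), rfl⟩
  obtain ⟨w, hw, hwe⟩ := hle ((ker_cov M F hK ω hω z).1 hz)
  rwa [← show w = z from Subtype.ext hwe]

/-! ### Stability -/

/-- Conjugation by `g` lifts to the whole extension, fixing the kernel. -/
def FullStable (g : ↥(TT).W) : Prop :=
  ∃ θ : ↥(cov M F hK ω hω) → ↥(cov M F hK ω hω), (∀ x, cH (θ x) = g * cH x * g⁻¹) ∧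
    (∀ x y, θ (x * y) = θ x * θ y) ∧ ∀ z ∈ (cH).ker, θ z = z

theorem full_one : FullStable M F hK ω hω 1 :=
  ⟨id, fun x => by simp, fun _ _ => rfl, fun _ _ => rfl⟩

theorem full_mul {g h : ↥(TT).W} (hg : FullStable M F hK ω hω g) (hh : FullStable M F hK ω hω h) :
    FullStable M F hK ω hω (g * h) := by
  obtain ⟨η, g1, g2, g3⟩ := hg
  obtain ⟨θ, h1, h2, h3⟩ := hh
  refine ⟨fun x => η (θ x), fun x => ?_, fun x y => ?_, fun z hz => ?_⟩
  · show cH (η (θ x)) = _
    rw [g1, h1]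
    group
  · show η (θ (x * y)) = η (θ x) * η (θ y)
    rw [h2, g2]
  · show η (θ z) = z
    rw [h3 z hz, g3 z hz]

theorem full_pow {g : ↥(TT).W} (hg : FullStable M F hK ω hω g) : ∀ k : ℕ, FullStable M F hK ω hω (g ^ k)
  | 0 => by rw [pow_zero]; exact full_one M F hK ω hω
  | k + 1 => by rw [pow_succ]; exact full_mul M F hK ω hω (full_pow hg k) hg

theorem full_tel {i : ℕ} (hi : i < 2) : FullStable M F hK ω hω (tel F hK ω hω i) := by
  have h := orbit_check.2
  simp only [List.all_eq_true, List.mem_range, Bool.and_eq_true, Nat.beq_eq] at h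
  have hs : 4 + i ∈ [4, 5] := by
    rcases i with _ | _ | i <;> simp_all
  obtain ⟨hn, hd⟩ := h _ hs
  obtain ⟨θ, h1, h2, h3⟩ := exists_lift M F hK ω hω (s := 4 + i) (by omega)
  have hall : ∀ x : ↥(cov M F hK ω hω), (x : ↥(TT).W × T) ∈ domS M F hK ω hω (4 + i) := by
    intro x
    refine (Subgroup.closure_le _).2 ?_ x.2
    rintro _ ⟨k, hk, rfl⟩
    exact Subgroup.subset_closure ⟨k, show k < (Data.presSub (4 + i)).n by rw [hn]; exact hk, by
      simp only [hd k hk]⟩
  have hy : yel F hK ω hω (4 + i) = tel F hK ω hω i := by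
    rw [yel, dif_neg (by omega), Nat.add_sub_cancel_left]
  exact ⟨θ, fun x => by rw [h1 x (hall x), hy], fun x y => h2 x y (hall x) (hall y), h3⟩

theorem full_diag {k : ↥(TT).W} (hk : (k : GL chevE6.Idx K) ∈ chevE6.diagonalSubgroup K) :
    FullStable M F hK ω hω k := by
  obtain ⟨c, hc⟩ := C.mem_diagonal_iff.1 hk
  have hf : (Twist.E6.orth F one_lt_two hK).Θ (k : GL chevE6.Idx K) = k := (TT).W_fix _ k.2
  rw [hc, (Twist.E6.orth F one_lt_two hK).Θ_HT] at hf
  obtain ⟨d, hd, ed⟩ := (Twist.E6.orth F one_lt_two hK).lang c hf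
  have hpow : ∀ u : Kˣ, ∃ a : ℕ, u = omu ω hω ^ a := by
    intro u
    obtain ⟨a, ha, hau⟩ := cases4 hK ω hω (u : K)
    interval_cases a
    · exact absurd hau.symm u.ne_zero
    · exact ⟨0, Units.ext (by rw [pow_zero]; exact hau.symm)⟩
    · exact ⟨1, Units.ext (by rw [pow_one]; exact hau.symm)⟩
    · refine ⟨2, Units.ext ?_⟩
      rw [Units.val_pow_eq_pow_val, ← hau]
      show ω + 1 = ω ^ 2
      linear_combination -hω
  obtain ⟨a, ha⟩ := hpow (d ⟨2, by decide⟩)
  obtain ⟨b, hb⟩ := hpow (d ⟨0, by decide⟩)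
  have hτ : ∀ j, φ (d ((Frob.nodePerm Twist.E6.g).symm j) : K) = d j := fun j => by
    exact congrArg Units.val (congrFun hd j)
  have hp : (Frob.nodePerm Twist.E6.g).symm ⟨1, by decide⟩ = (⟨1, by decide⟩ : Fin chevE6.rank) ∧
      (Frob.nodePerm Twist.E6.g).symm ⟨3, by decide⟩ = (⟨3, by decide⟩ : Fin chevE6.rank) ∧
      (Frob.nodePerm Twist.E6.g).symm ⟨4, by decide⟩ = (⟨2, by decide⟩ : Fin chevE6.rank) ∧
      (Frob.nodePerm Twist.E6.g).symm ⟨5, by decide⟩ = (⟨0, by decide⟩ : Fin chevE6.rank) := by decide +kernel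
  have hfix1 : ∀ j, (Frob.nodePerm Twist.E6.g).symm j = j → d j = 1 := by
    intro j hj
    have h := hτ j
    rw [hj, F.apply, pow_two] at h
    exact Units.ext (by rw [Units.val_one]; exact mul_left_cancel₀ (d j).ne_zero (h.trans (mul_one _).symm))
  have hmov : ∀ i j, (Frob.nodePerm Twist.E6.g).symm j = i → d j = d i ^ 2 := by
    intro i j hij
    have h := hτ j
    rw [hij, F.apply] at h
    exact Units.ext (by rw [Units.val_pow_eq_pow_val]; exact h.symm)
  have hd' : d = torC ω hω 0 ^ a * torC ω hω 1 ^ b := by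
    funext j
    obtain ⟨p1, p3, p4, p5⟩ := hp
    fin_cases j <;> simp [torC, Data.torExp, hfix1 _ p1, hfix1 _ p3, hmov _ _ p4, hmov _ _ p5, ha, hb, ← pow_mul,
      mul_comm] <;>
      first
      | exact hb
      | exact ha
      | exact hfix1 _ p1
      | exact hfix1 _ p3
      | (rw [hmov _ _ p4, ha, ← pow_mul])
      | (rw [hmov _ _ p5, hb, ← pow_mul])
  have hval : k = tel F hK ω hω 0 ^ a * tel F hK ω hω 1 ^ b := by
    refine Subtype.ext ?_
    rw [hc, ← ed, hd', tel, tel, dif_pos (by norm_num), dif_pos (by norm_num), Subgroup.coe_mul,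
      Subgroup.coe_pow, Subgroup.coe_pow]
    show C.HT K _ = C.HT K _ ^ a * C.HT K _ ^ b
    exact (map_mul (C.HThom K) _ _).trans (congrArg₂ (· * ·) (map_pow (C.HThom K) _ _) (map_pow (C.HThom K) _ _))
  rw [hval]
  exact full_mul M F hK ω hω (full_pow M F hK ω hω (full_tel M F hK ω hω (by norm_num)) a)
    (full_pow M F hK ω hω (full_tel M F hK ω hω (by norm_num)) b)

theorem orbit_lift (m : Fin 4) {x : ↥(cov M F hK ω hω)}
    (hx : (cH x : GL chevE6.Idx K) ∈ C.US K {r | r ∈ C.Pos ∧ (TT).wO m r ∈ C.Pos}) :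
    (x : ↥(TT).W × T) ∈ domS M F hK ω hω m.val := by
  obtain ⟨hDle, hDcard, hDker⟩ := domS_facts M F hK ω hω (s := m.val) (by omega)
  set D := domS M F hK ω hω m.val with hD
  set S : Set (Rt chevE6) := {r | r ∈ C.Pos ∧ (TT).wO m r ∈ C.Pos} with hS
  set A := uS (TT) S with hA
  set B := uO (TT) m with hB
  have hoc := orbit_check.1
  simp only [List.all_eq_true, List.mem_range, Bool.and_eq_true, Nat.beq_eq, Nat.blt_eq] at hoc
  obtain ⟨hn, hroots⟩ := hoc m.val m.isLt
  set f := (MonoidHom.fst ↥(TT).W T).comp D.subtype with hf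
  have hker : Nat.card f.ker = 4 := by
    rw [← card_ker M F hK ω hω]
    exact Nat.card_congr
      { toFun := fun d => ⟨⟨d.1.1, hDle d.1.2⟩, d.2⟩
        invFun := fun t => ⟨⟨t.1.1, hDker t.1 t.2⟩, t.2⟩
        left_inv := fun _ => rfl
        right_inv := fun _ => rfl }
  have hle : f.range ≤ A := by
    rw [hf, MonoidHom.range_eq_map, ← Subgroup.map_map, ← MonoidHom.range_eq_map, Subgroup.range_subtype, hD,
      domS, MonoidHom.map_closure, Subgroup.closure_le]
    rintro _ ⟨_, ⟨k, hk, rfl⟩, rfl⟩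
    refine (mem_uS _).2 ?_
    show ev ω (gword (dI m.val k)) ∈ _
    refine list_prod_mem fun y hy => ?_
    obtain ⟨v, hv, rfl⟩ := List.mem_map.1 hy
    obtain ⟨⟨⟨v1, v2⟩, v3⟩, v4⟩ := hroots k hk v hv
    refine C.X_mem_US K (S := S) ⟨(TwMult.E6.pos_iff36 _).2 ?_, (TwMult.E6.pos_iff36 _).2 ?_⟩ _
    · rw [Rn_val v2]; omega
    · have hw := w_tables
      simp only [List.all_eq_true, List.mem_range, Bool.and_eq_true, decide_eq_true_eq] at hw
      have e : (TT).wO m (Rn v.1) = Rn ((Data.wTab.getD m.val []).getD v.1 0) := by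
        rw [show (TT).wO m = C.pprod ((TT).J m) from rfl, J_eq]
        have h1 := (hw m.val m.isLt (Rn v.1) (List.mem_finRange _)).1
        rw [Rn_val v2] at h1
        rw [← h1]
        generalize Jfin.getD m.val [] = L
        induction L with
        | nil => simp [C.pprod_nil]
        | cons i L ih => rw [C.pprod_cons, Equiv.Perm.mul_apply, ih]; rfl
      rw [e, Rn_val v4]
      omega
  have hdisj : Disjoint A B := by
    rw [disjoint_iff, Subgroup.eq_bot_iff_forall]
    intro g hg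
    obtain ⟨hgA, hgB⟩ := Subgroup.mem_inf.1 hg
    have h1 : (TT).nO m * (g : GL chevE6.Idx K) * ((TT).nO m)⁻¹ ∈ C.US K C.Pos :=
      C.conj_mem_US K ((TT).nO_acts m) (fun r hr => hr.2) ((mem_uS _).1 hgA)
    have h2 : (TT).nO m * (g : GL chevE6.Idx K) * ((TT).nO m)⁻¹ ∈ C.US K C.Neg :=
      C.conj_mem_US K ((TT).nO_acts m) (fun r hr => hr.2) ((mem_uS _).1 hgB)
    have h3 : (TT).nO m * (g : GL chevE6.Idx K) * ((TT).nO m)⁻¹ ∈
        chevE6.borelSubgroup K ⊓ C.US K C.Neg := ⟨C.posUS_le_borel h1, h2⟩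
    rw [C.borel_inf_negUS, Subgroup.mem_bot, conj_eq_one_iff] at h3
    exact Subtype.ext h3
  have hcardB : Nat.card B = 2 ^ (if m.val < 2 then 1 else 2) := by
    have e : Nat.card B =
        Nat.card {u : GL chevE6.Idx K // u ∈ C.US K (C.inv' (C.pprod ((TT).J m))) ∧ (TT).τ u = u} :=
      Nat.card_congr
        { toFun := fun g => ⟨g.1.1, (mem_uS _).1 g.2, (TT).W_fix _ g.1.2⟩
          invFun := fun u => ⟨⟨u.1, (TT).base_mem m _ u.2.1 u.2.2⟩, (mem_uS _).2 u.2.1⟩
          left_inv := fun _ => rfl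
          right_inv := fun _ => rfl }
    rw [e, (TT).base_card m]
    show 2 ^ (C.len (C.pprod ((Twist.E6.orth F one_lt_two hK).Jl m)) / 1) = _
    rw [Nat.div_one]
    exact congrArg (fun l => 2 ^ l)
      (((Twist.E6.orth F one_lt_two hK).len_Jl m).trans (Twist.E6.sz_os F one_lt_two hK m))
  have hmul : Nat.card A * Nat.card B ≤ 2 ^ 36 := by
    rw [← Nat.card_prod, ← card_U F hK]
    refine Nat.card_le_card_of_injective
      (fun p => (⟨p.1.1 * p.2.1, mul_mem
        ((mem_uS _).2 (C.US_mono K (fun r hr => hr.1) ((mem_uS _).1 p.1.2)))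
        (TwMult.uO_le (TT) m p.2.2)⟩ : ↥(uS (TT) C.Pos))) fun p q hpq => ?_
    exact Subgroup.mul_injective_of_disjoint hdisj (congrArg Subtype.val hpq)
  have hrange : f.range = A := by
    refine Subgroup.eq_of_le_of_card_ge hle ?_
    have h := f.ker.card_mul_index
    rw [Subgroup.index_ker, hker, hDcard] at h
    rw [hcardB] at hmul
    have hn' : (Data.presSub m.val).n + (if m.val < 2 then 1 else 2) = 38 := by
      by_cases h2 : m.val < 2
      · rw [if_pos h2]; rwa [if_pos (by simpa using h2)] at hn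
      · rw [if_neg h2]; rwa [if_neg (by simpa using h2)] at hn
    refine Nat.le_of_mul_le_mul_right (c := 4 * 2 ^ (if m.val < 2 then 1 else 2)) ?_ (by positivity)
    calc Nat.card A * (4 * 2 ^ (if m.val < 2 then 1 else 2))
          = 4 * (Nat.card A * 2 ^ (if m.val < 2 then 1 else 2)) := by ring
      _ ≤ 4 * 2 ^ 36 := Nat.mul_le_mul_left 4 hmul
      _ = 2 ^ ((Data.presSub m.val).n + (if m.val < 2 then 1 else 2)) := by rw [hn']; norm_num
      _ = Nat.card f.range * (4 * 2 ^ (if m.val < 2 then 1 else 2)) := by rw [pow_add, ← h]; ring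
  obtain ⟨d, hd⟩ : cH x ∈ f.range := hrange ▸ (mem_uS _).2 hx
  have hk : cH (x * (⟨d.1, hDle d.2⟩ : ↥(cov M F hK ω hω))⁻¹) = 1 := by
    rw [map_mul, map_inv, mul_inv_eq_one]
    exact hd.symm
  have hm := mul_mem (hDker _ hk) d.2
  simpa using hm

theorem stable_monomial : ∀ σ ∈ (TT).WT, ∀ n : ↥(TT).W, (n : GL chevE6.Idx K) ∈ chevE6.monomialSubgroup K →
    C.Acts (n : GL chevE6.Idx K) σ → StableK cH n := by
  refine (TT).WT_induction (fun σ => ∀ n : ↥(TT).W, (n : GL chevE6.Idx K) ∈ chevE6.monomialSubgroup K →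
    C.Acts (n : GL chevE6.Idx K) σ → StableK cH n) ?_ ?_
  · intro n hn ha
    obtain ⟨θ, h1, h2, h3⟩ := full_diag M F hK ω hω (C.mem_diagonal_of_acts_one hn ha)
    exact ⟨θ, fun x _ => h1 x, fun x _ y _ => h2 x y, h3⟩
  intro σ hσ i hi ih n hn ha
  set m := (TT).idx i with hm
  have hwinv : (C.pprod ((TT).J m))⁻¹ = (TT).wO m := inv_eq_of_mul_eq_one_right ((TT).J_inv m)
  have hN : StableK cH (n * ((TT).nS m)⁻¹) := by
    refine ih _ (mul_mem hn (inv_mem ((TT).nO_mono m))) ?_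
    have := C.acts_mul K ha (C.acts_inv K ((TT).nO_acts m))
    rwa [hwinv] at this
  let m4 : Fin 4 := m
  obtain ⟨θ, g1, g2, g3⟩ := exists_lift M F hK ω hω (s := m4.val) (lt_of_lt_of_le m4.isLt (by norm_num))
  have hy : yel F hK ω hω m4.val = (TT).nS m := dif_pos m4.isLt
  have hdom : ∀ x ∈ Dom cH n, (x : ↥(TT).W × T) ∈ domS M F hK ω hω m4.val := by
    intro x hx
    refine orbit_lift M F hK ω hω m4 ?_
    rw [mem_Dom, range_cov, mem_uS] at hx
    have hxU : (cH x : GL chevE6.Idx K) ∈ C.US K C.Pos :=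
      (mem_uS _).1 (range_cov M F hK ω hω ▸ MonoidHom.mem_range.2 ⟨x, rfl⟩)
    obtain ⟨a, haU, v, hv, e⟩ := comm'.exists_factor (A := {r | σ r ∈ C.Pos})
      (S := {r | σ r ∈ C.Neg}) (fun r _ => (em _).imp_right (C.neg_iff_not_pos _).2) hxU
    have ha' : (n : GL chevE6.Idx K) * a * (n : GL chevE6.Idx K)⁻¹ ∈ C.US K C.Pos :=
      C.conj_mem_US K ha (fun r hr => hr.1) haU
    have hv' : (n : GL chevE6.Idx K) * v * (n : GL chevE6.Idx K)⁻¹ ∈ C.US K C.Neg :=
      C.conj_mem_US K ha (fun r hr => hr.1) hv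
    have hv1 : (n : GL chevE6.Idx K) * v * (n : GL chevE6.Idx K)⁻¹ = 1 := by
      rw [← Subgroup.mem_bot, ← C.borel_inf_negUS]
      refine Subgroup.mem_inf.2 ⟨C.posUS_le_borel ?_, hv'⟩
      have e4 : (n : GL chevE6.Idx K) * v * (n : GL chevE6.Idx K)⁻¹ =
          ((n : GL chevE6.Idx K) * a * (n : GL chevE6.Idx K)⁻¹)⁻¹ *
            ((n : GL chevE6.Idx K) * (cH x : GL chevE6.Idx K) * (n : GL chevE6.Idx K)⁻¹) := by rw [e]; group
      rw [e4]
      exact mul_mem (inv_mem ha') hx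
    rw [conj_eq_one_iff] at hv1
    rw [e, hv1, mul_one]
    refine C.US_mono K ?_ haU
    rintro r ⟨hr1, hr2⟩
    refine ⟨hr2, ?_⟩
    by_contra hneg
    have hr3 : r ∈ C.inv' σ := by
      rw [((TT).inv'_split hσ hi).1]
      exact Or.inl ⟨hr2, (C.neg_iff_not_pos _).2 hneg⟩
    exact (C.neg_iff_not_pos _).1 hr3.2 hr1
  have key := stableK_comp cH hN (h := (TT).nS m) (θ := θ)
    (fun x hx => by
      rw [inv_mul_cancel_right] at hx
      rw [g1 x (hdom x hx), hy])
    (fun x hx y hy' => by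
      rw [inv_mul_cancel_right] at hx hy'
      exact g2 x y (hdom x hx) (hdom y hy'))
    g3
  rwa [inv_mul_cancel_right] at key

theorem stable_all (g : ↥(TT).W) : StableK cH g := by
  obtain ⟨σ, hσ, h⟩ := (TT).exists_nf ((TT).W_le g.2) ((TT).W_fix _ g.2)
  obtain ⟨n, hn, hnm, hna⟩ := (TT).exists_rep hσ
  obtain ⟨b, hb, hbf, u, hu, huf, e⟩ := h n hn hnm hna
  obtain ⟨v, hv, k, hk, rfl, hvf, hkf⟩ := (TT).borel_fix hb hbf
  have hu' : u ∈ C.US K C.Pos := C.US_mono K (fun r hr => hr.1) hu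
  have huW : u ∈ (TT).W := (TT).posU_fix_le ⟨hu', C.US_le_group _ hu', huf⟩
  have hvW : v ∈ (TT).W := (TT).posU_fix_le ⟨hv, C.US_le_group _ hv, hvf⟩
  have hkW : k ∈ (TT).W := (TT).diag_mem k hk hkf
  have eg : g = (⟨v, hvW⟩ : ↥(TT).W) * (⟨k, hkW⟩ * ⟨n, hn⟩) * ⟨u, huW⟩ := Subtype.ext (by
    rw [e, Subgroup.coe_mul, Subgroup.coe_mul, Subgroup.coe_mul, mul_assoc v k n])
  rw [eg]
  refine stableK_mul_mul cH (ker_center M F hK ω hω) ?_ ?_ (stable_monomial M F hK ω hω σ hσ _
    (mul_mem (Subgroup.mem_sup_left hk) hnm) ?_)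
  · rw [range_cov]; exact (mem_uS _).2 hv
  · rw [range_cov]; exact (mem_uS _).2 hu'
  · have := C.acts_mul K (C.acts_diagonal hk) hna
    rwa [one_mul] at this

include M ω hω in
/-- A stem extension with kernel a four-group. -/
theorem exists_two_cover (e : (Orth.tw (Twist.E6.orth F one_lt_two hK)).W = Cfsg.Lie.twistedE6 K 2) :
    ∃ (Γ : Type u) (_ : Group Γ) (_ : Finite Γ) (σ : Γ →* ↥(TT).W),
      Cfsg.IsStemExtension σ ∧ Nonempty (σ.ker ≃* Multiplicative (ZMod 2 × ZMod 2)) := by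
  have hsq : ∀ z ∈ (cH).ker, z * z = 1 := by
    obtain ⟨i⟩ := ker_four M F hK ω hω
    intro z hz
    have : ∀ t : Multiplicative (ZMod 2 × ZMod 2), t * t = 1 := by decide
    have h := i.injective ((map_mul i _ _).trans ((this (i ⟨z, hz⟩)).trans (map_one i).symm))
    exact congrArg Subtype.val h
  obtain ⟨Γ, hG, hfin, σ, hσ, ⟨i⟩⟩ := exists_stem_transfer cH (ker_center M F hK ω hω) hsq
    (by
      rw [range_cov, ← Nat.not_even_iff_odd, even_iff_two_dvd]
      exact Cfsg.Agent.S2108.index_coprime Nat.prime_two.isPrimePow hK F e Nat.prime_two dvd_rfl)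
    (stable_all M F hK ω hω) (ker_commutator M F hK ω hω)
  obtain ⟨j⟩ := ker_four M F hK ω hω
  exact ⟨Γ, hG, hfin, σ, hσ, ⟨i.trans j⟩⟩

end Cfsg.Agent.Lib.E6Mult45
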