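import Cfsg.Prelude.Def_KGroupFacts
import Mathlib

/-!
The fibre product of two stem extensions whose kernels have exponents three and two is a stem extension with
the product of the kernels as kernel.
-/

set_option autoImplicit false

namespace Cfsg.Agent.Lib.E6Mult45

universe u

variable {G : Type u} [Group G] {Γ₁ Γ₂ : Type u} [Group Γ₁] [Group Γ₂]

theorem exists_fibre [Finite Γ₁] [Finite Γ₂] {σ₁ : Γ₁ →* G} {σ₂ : Γ₂ →* G} (h₁ : Cfsg.IsStemExtension σ₁)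
    (h₂ : Cfsg.IsStemExtension σ₂) (e₁ : ∀ x ∈ σ₁.ker, x ^ 3 = 1) (e₂ : ∀ x ∈ σ₂.ker, x ^ 2 = 1) :
    ∃ (Γ : Type u) (_ : Group Γ) (_ : Finite Γ) (σ : Γ →* G),
      Cfsg.IsStemExtension σ ∧ Nonempty (σ.ker ≃* σ₁.ker × σ₂.ker) := by
  let P : Subgroup (Γ₁ × Γ₂) := (σ₁.comp (MonoidHom.fst Γ₁ Γ₂)).eqLocus (σ₂.comp (MonoidHom.snd Γ₁ Γ₂))
  let σ : ↥P →* G := (σ₁.comp (MonoidHom.fst Γ₁ Γ₂)).comp P.subtype
  have hP : ∀ x : Γ₁ × Γ₂, x ∈ P ↔ σ₁ x.1 = σ₂ x.2 := fun x => Iff.rfl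
  have hk : ∀ p : ↥P, p ∈ σ.ker ↔ p.1.1 ∈ σ₁.ker ∧ p.1.2 ∈ σ₂.ker := fun p => by
    have e := (hP p.1).1 p.2
    simp only [MonoidHom.mem_ker]
    exact ⟨fun h => ⟨h, e ▸ h⟩, fun h => h.1⟩
  -- both projections are onto
  have hp1 : Function.Surjective ((MonoidHom.fst Γ₁ Γ₂).comp P.subtype) := fun a => by
    obtain ⟨b, hb⟩ := h₂.1 (σ₁ a)
    exact ⟨⟨(a, b), hb.symm⟩, rfl⟩
  have hp2 : Function.Surjective ((MonoidHom.snd Γ₁ Γ₂).comp P.subtype) := fun b => by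
    obtain ⟨a, ha⟩ := h₁.1 (σ₂ b)
    exact ⟨⟨(a, b), ha⟩, rfl⟩
  have hmap : ∀ {H : Type u} [Group H] (f : ↥P →* H), Function.Surjective f →
      (commutator ↥P).map f = commutator H := fun f hf => by
    rw [commutator_def, Subgroup.map_commutator, Subgroup.map_top_of_surjective f hf, ← commutator_def]
  refine ⟨↥P, inferInstance, inferInstance, σ, ⟨?_, ?_, ?_⟩, ⟨?_⟩⟩
  · intro g
    obtain ⟨a, rfl⟩ := h₁.1 g
    obtain ⟨p, hp⟩ := hp1 a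
    exact ⟨p, congrArg σ₁ hp⟩
  · intro p hp
    rw [Subgroup.mem_center_iff]
    intro q
    exact Subtype.ext (Prod.ext (Subgroup.mem_center_iff.1 (h₁.2.1 ((hk p).1 hp).1) q.1.1)
      (Subgroup.mem_center_iff.1 (h₂.2.1 ((hk p).1 hp).2) q.1.2))
  · intro p hp
    obtain ⟨ha, hb⟩ := (hk p).1 hp
    have ha' := h₁.2.2 ha
    rw [← hmap _ hp1] at ha'
    obtain ⟨x, hx, hxa⟩ := ha'
    have hb' := h₂.2.2 hb
    rw [← hmap _ hp2] at hb'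
    obtain ⟨y, hy, hyb⟩ := hb'
    have hxa' : x.1.1 = p.1.1 := hxa
    have hyb' : y.1.2 = p.1.2 := hyb
    have hx2 : x.1.2 ∈ σ₂.ker := by
      have e := (hP x.1).1 x.2
      rw [MonoidHom.mem_ker, ← e, hxa']
      exact ha
    have hy1 : y.1.1 ∈ σ₁.ker := by
      have e := (hP y.1).1 y.2
      rw [MonoidHom.mem_ker, e, hyb']
      exact hb
    have e : p = x ^ 4 * y ^ 3 := by
      refine Subtype.ext (Prod.ext ?_ ?_)
      · show p.1.1 = x.1.1 ^ 4 * y.1.1 ^ 3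
        rw [hxa', e₁ _ hy1, mul_one, pow_succ, e₁ _ ha, one_mul]
      · show p.1.2 = x.1.2 ^ 4 * y.1.2 ^ 3
        rw [hyb', show x.1.2 ^ 4 = (x.1.2 ^ 2) ^ 2 by rw [← pow_mul], e₂ _ hx2, one_pow, one_mul, pow_succ,
          e₂ _ hb, one_mul]
    rw [e]
    exact mul_mem (pow_mem hx 4) (pow_mem hy 3)
  · exact
      { toFun := fun p => (⟨p.1.1.1, ((hk p.1).1 p.2).1⟩, ⟨p.1.1.2, ((hk p.1).1 p.2).2⟩)
        invFun := fun v => ⟨⟨(v.1.1, v.2.1), (hP _).2 ((MonoidHom.mem_ker.1 v.1.2).trans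
          (MonoidHom.mem_ker.1 v.2.2).symm)⟩, MonoidHom.mem_ker.1 v.1.2⟩
        left_inv := fun _ => rfl
        right_inv := fun _ => rfl
        map_mul' := fun _ _ => rfl }

end Cfsg.Agent.Lib.E6Mult45
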