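import Cfsg.Agent.Lib.E6Mult45.Symbolic
import Cfsg.Agent.Lib.LieTwisted.Twist.E6Thms

/-!
The thirty-six generators of the unipotent group of ²E₆(2), their relations, and the action on them of the
four twisted reflections and of two torus elements.
-/

set_option autoImplicit false
set_option maxRecDepth 100000
set_option linter.unusedSectionVars false

namespace Cfsg.Agent.Lib.E6Mult45

open Cfsg.Lie
open Cfsg.Agent.Lib.ChevStructure Cfsg.Agent.Lib.LieTwisted Cfsg.Agent.Lib.LieTwisted.Twist
open Cfsg.Agent.Lib.LieTwisted.Twist.E6 (C)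
open Cfsg.Agent.Lib.TwMult.E6 (Rn comm' sg Θ_X SR pidx rp valid ex)
open Cfsg.Agent.Lib.TwMult (uS mem_uS)
open scoped MatrixGroups

local notation "π" => Frob.rootPerm Twist.E6.g

universe u

/-- The word of a generator. -/
def gword (k : ℕ) : List (ℕ × ℕ) := Data.gw.getD k []

/-- The code of the square. -/
def sqC (a : ℕ) : ℕ := [0, 1, 3, 2].getD a 0

/-- The graph automorphism on letters. -/
def tauL (x : ℕ × ℕ) : ℕ × ℕ := (Data.piTab.getD x.1 0, sqC x.2)

/-- The action of the six elements on letters. -/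
def amap (s : ℕ) (x : ℕ × ℕ) : ℕ × ℕ :=
  if Nat.blt s 4 then ((Data.wTab.getD s []).getD x.1 0, x.2)
  else (x.1, cmul ([1, 2, 3].getD ((Data.chiTab.getD (s - 4) []).getD x.1 0) 1) x.2)

/-- An element carries one word in the generators to another. -/
def actB (s : ℕ) (v w : List ℕ) : Bool :=
  posL (v.flatMap gword) && eqW ((v.flatMap gword).map (amap s)) (w.flatMap gword)

/-- The simple roots of an orbit. -/
def Jfin : List (List (Fin chevE6.rank)) :=
  [[⟨1, by decide⟩], [⟨3, by decide⟩], [⟨2, by decide⟩, ⟨4, by decide⟩], [⟨0, by decide⟩, ⟨5, by decide⟩]]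

/-- The first generator of a layer. -/
def st (j : ℕ) : ℕ :=
  [0, 2, 4, 5, 6, 8, 10, 11, 13, 14, 16, 18, 20, 21, 23, 24, 25, 27, 28, 30, 31, 33, 34, 35].getD j 36

/-- The generators of a layer multiplying to the element with a given coefficient. -/
def lw (j a : ℕ) : List ℕ := [[], [st j], [st j + 1], [st j, st j + 1]].getD a []

theorem gw_facts : ((List.range 38).all fun k => posL (gword k) && eqW (gword k) ((gword k).map tauL)) = true ∧
    ((List.range 72).all fun r => decide (π (Rn r) = Rn (Data.piTab.getD r 0))) = true := by decide +kernel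

theorem sg_one : ∀ r : Rt chevE6, sg r = 1 ∨ sg r = -1 := by decide +kernel

theorem w_tables : ((List.range 4).all fun o => (List.finRange chevE6.nroots).all fun r =>
    decide ((Jfin.getD o []).foldr C.w r = Rn ((Data.wTab.getD o []).getD r.val 0)) &&
      ((Jfin.getD o []).map Fin.val == Twist.E6.Js.getD o [])) = true := by decide +kernel

theorem chi_tables : ((List.range 2).all fun i => (List.finRange chevE6.nroots).all fun r =>
    decide ((∑ j : Fin chevE6.rank, (((Data.torExp.getD i []).getD j.val 0 : ℕ) : ℤ) * A chevE6 j r) % 3 =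
      (((Data.chiTab.getD i []).getD r.val 0 : ℕ) : ℤ)) && Nat.blt ((Data.chiTab.getD i []).getD r.val 0) 3) &&
    ((List.range 2).all fun i => (List.finRange chevE6.rank).all fun j =>
      decide (2 * (Data.torExp.getD i []).getD ((Frob.nodePerm Twist.E6.g).symm j).val 0 % 3 =
        (Data.torExp.getD i []).getD j.val 0)) = true := by decide +kernel

theorem rel_check : ((List.range 38).all fun i => (List.range (i + 1)).all fun j =>
    eqW ((Data.pres38.lhs i j).flatMap gword) ((Data.pres38.rhs i j).flatMap gword)) = true := by decide +kernel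

theorem pres_rel_check : ((List.range 36).all fun i => (List.range (i + 1)).all fun j =>
    eqW ((Data.pres.lhs i j).flatMap gword) ((Data.pres.rhs i j).flatMap gword)) = true := by decide +kernel

theorem lw_check : ((List.range 24).all fun j => (List.range 4).all fun a =>
    ((lw j a).all fun l => Nat.ble (st j) l) && Nat.ble (st j) (st (j + 1)) &&
    (if π (rp j) = rp j then
      Nat.blt 1 a || (eqW ((lw j a).flatMap gword) [((rp j).val, a)] && (lw j a).all fun l => Nat.blt l 36)
    else eqW ((lw j a).flatMap gword) [((rp j).val, a), (Data.piTab.getD (rp j).val 0, sqC a)] &&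
      (lw j a).all fun l => Nat.blt l 36)) = true := by decide +kernel

variable {K : Type u} [Field K] [Fintype K] {φ : K ≃+* K} (F : Frob.Facts K 2 2 φ)
  (hK : Fintype.card K = 2 ^ 2) (ω : K)

local notation "TT" => Orth.tw (Twist.E6.orth F one_lt_two hK)

include hK in
theorem two_zero : (2 : K) = 0 := by
  haveI : Fact (Nat.Prime 2) := ⟨Nat.prime_two⟩
  haveI := charP_of_card_eq_prime_pow (R := K) hK
  exact CharP.cast_eq_zero K 2

include hK in
theorem exists_omega : ∃ ω : K, ω * ω = ω + 1 := by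
  classical
  obtain ⟨x, -, hx⟩ : ∃ x ∈ (Finset.univ : Finset K), x ∉ ({0, 1} : Finset K) := by
    refine Finset.exists_mem_notMem_of_card_lt_card ?_
    rw [Finset.card_univ, hK, Finset.card_pair zero_ne_one]
    norm_num
  rw [Finset.mem_insert, Finset.mem_singleton, not_or] at hx
  have h3 : x ^ 3 = 1 := by
    have := FiniteField.pow_card_sub_one_eq_one x hx.1
    rwa [hK] at this
  have h : (x - 1) * (x * x + x + 1) = 0 := by linear_combination h3
  have h' := (mul_eq_zero.1 h).resolve_left (sub_ne_zero.2 hx.2)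
  exact ⟨x, by linear_combination h' - (x + 1) * two_zero hK⟩

variable (hω : ω * ω = ω + 1)

include hω in
theorem omega_ne : ω ≠ 0 ∧ ω ≠ 1 ∧ ω + 1 ≠ 0 ∧ ω + 1 ≠ ω := by
  refine ⟨fun h => ?_, fun h => ?_, fun h => ?_, fun h => ?_⟩
  · subst h; simp at hω
  · subst h; simp at hω
  · rw [h, mul_self_eq_zero] at hω
    subst hω
    simp at h
  · exact one_ne_zero (add_eq_left.1 h)

include hK hω in
theorem cases4 (t : K) : ∃ a < 4, cf ω a = t := by
  classical
  obtain ⟨n0, n1, n2, n3⟩ := omega_ne ω hω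
  have n4 : ω + 1 ≠ 1 := fun h => n0 (add_eq_right.1 h)
  have h : ({0, 1, ω, ω + 1} : Finset K) = Finset.univ := by
    refine Finset.eq_univ_of_card _ ?_
    rw [hK, Finset.card_insert_of_notMem, Finset.card_insert_of_notMem, Finset.card_pair n3.symm]
    · rfl
    · simp [Ne.symm n1, Ne.symm n4]
    · simp [Ne.symm n0, Ne.symm n2]
  have := h.ge (Finset.mem_univ t)
  simp only [Finset.mem_insert, Finset.mem_singleton] at this
  rcases this with rfl | rfl | rfl | rfl
  exacts [⟨0, by norm_num, rfl⟩, ⟨1, by norm_num, rfl⟩, ⟨2, by norm_num, rfl⟩, ⟨3, by norm_num, rfl⟩]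

include F hK hω in
theorem phi_cf {a : ℕ} (ha : a < 4) : φ (cf ω a) = cf ω (sqC a) := by
  rw [F.apply]
  interval_cases a <;> simp [cf, sqC]
  · linear_combination hω
  · linear_combination hω + (ω + 1) * two_zero hK

include F hK hω in
theorem tau_X {r a : ℕ} (hr : r < 72) (ha : a < 4) :
    (TT).τ (C.X K (Rn r) (cf ω a)) = C.X K (Rn (tauL (r, a)).1) (cf ω (tauL (r, a)).2) := by
  have h := gw_facts.2
  simp only [List.all_eq_true, List.mem_range, decide_eq_true_eq] at h
  rw [Θ_X F one_lt_two hK, h r hr, cast_sign (two_zero hK) (sg_one _), one_mul, phi_cf F hK ω hω ha]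
  rfl

include hω in
theorem ev_mem_W {w : List (ℕ × ℕ)} (hp : posL w = true) (h : eqW w (w.map tauL) = true) : ev ω w ∈ (TT).W := by
  have key : ∀ w : List (ℕ × ℕ), posL w = true →
      ev ω w ∈ chevE6.group K ∧ (TT).τ (ev ω w) = ev ω (w.map tauL) := by
    intro w
    induction w with
    | nil => intro _; rw [ev_nil, List.map_nil, ev_nil]; exact ⟨one_mem _, (TT).τ_one⟩
    | cons x w ih =>
      intro hx
      simp only [posL, List.all_cons, Bool.and_eq_true, Nat.blt_eq] at hx
      obtain ⟨h1, h2⟩ := ih hx.2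
      rw [ev_cons, List.map_cons, ev_cons, (TT).τ_mul _ (C.X_mem_group _ _) _ h1, h2,
        tau_X F hK ω hω hx.1.1.2 hx.1.2]
      exact ⟨mul_mem (C.X_mem_group _ _) h1, rfl⟩
  obtain ⟨h1, h2⟩ := key w hp
  exact (TT).mem_W_iff.2 ⟨h1, by rw [h2, ← eqW_sound ω (two_zero hK) hω h]⟩

include hω in
theorem gword_mem (k : ℕ) : ev ω (gword k) ∈ (TT).W := by
  by_cases hk : k < 38
  · have h := gw_facts.1
    simp only [List.all_eq_true, List.mem_range, Bool.and_eq_true] at h
    exact ev_mem_W F hK ω hω (h k hk).1 (h k hk).2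
  · rw [gword, List.getD_eq_default _ _ (show Data.gw.length ≤ k by
      rw [show Data.gw.length = 36 from rfl]; omega), ev_nil]
    exact one_mem _

/-- The generators, trivial from 36 on. -/
noncomputable def gel (k : ℕ) : ↥(TT).W := ⟨ev ω (gword k), gword_mem F hK ω hω k⟩

theorem coe_wel : ∀ w : List ℕ, ((wel (gel F hK ω hω) w : ↥(TT).W) : GL chevE6.Idx K) = ev ω (w.flatMap gword)
  | [] => by rw [List.flatMap_nil, ev_nil]; rfl
  | a :: w => by rw [wel_cons, Subgroup.coe_mul, coe_wel w, List.flatMap_cons, ev_append]; rfl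

theorem wel_congr {v w : List ℕ} (h : eqW (v.flatMap gword) (w.flatMap gword) = true) :
    wel (gel F hK ω hω) v = wel (gel F hK ω hω) w :=
  Subtype.ext (by rw [coe_wel, coe_wel, eqW_sound ω (two_zero hK) hω h])

theorem rel38 : Data.pres38.RelsFrom (gel F hK ω hω) 0 := fun i hi j hj _ => by
  have h := rel_check
  simp only [List.all_eq_true, List.mem_range] at h
  exact wel_congr F hK ω hω (h i hi j (by omega))

open Schur in
theorem rel36 : ∀ i < Data.pres.n, ∀ j ≤ i, PcCollect.Data.el (gel F hK ω hω) (Data.pres.lhs i j) =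
    PcCollect.Data.el (gel F hK ω hω) (Data.pres.rhs i j) := fun i hi j hj => by
  have h := pres_rel_check
  simp only [List.all_eq_true, List.mem_range] at h
  exact wel_congr F hK ω hω (h i hi j (by omega))

/-! ### The six elements -/

/-- The coefficient of the torus elements. -/
noncomputable def omu : Kˣ := Units.mk0 ω (omega_ne ω hω).1

include hK in
theorem omu_cube : omu ω hω ^ (3 : ℤ) = 1 := by
  refine Units.ext ?_
  simp only [omu, zpow_ofNat, Units.val_pow_eq_pow_val, Units.val_mk0, Units.val_one]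
  linear_combination (ω + 1) * hω + ω * two_zero hK

include hK in
theorem omu_zpow {e : ℤ} {k : ℕ} (hk : k < 3) (he : e % 3 = k) :
    ((omu ω hω ^ e : Kˣ) : K) = cf ω ([1, 2, 3].getD k 1) := by
  rw [← Int.mul_ediv_add_emod e 3, he, zpow_add, zpow_mul, omu_cube hK, one_zpow, one_mul, zpow_natCast]
  interval_cases k <;> simp [omu, cf]
  linear_combination hω

/-- The parameters of the torus elements. -/
noncomputable def torC (i : ℕ) : Fin chevE6.rank → Kˣ := fun j => omu ω hω ^ (Data.torExp.getD i []).getD j.val 0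

theorem torC_fix {i : ℕ} (hi : i < 2) : (Twist.E6.orth F one_lt_two hK).τc (torC ω hω i) = torC ω hω i := by
  funext j
  show Units.map (φ : K →* K) (torC ω hω i ((Frob.nodePerm Twist.E6.g).symm j)) = _
  refine Units.ext ?_
  simp only [torC, Units.coe_map, Units.val_pow_eq_pow_val]
  show φ ((omu ω hω : K) ^ _) = _
  rw [F.apply, ← pow_mul, mul_comm]
  have h := chi_tables
  simp only [Bool.and_eq_true, List.all_eq_true, List.mem_range, decide_eq_true_eq] at h
  have e := h.2 i hi j (List.mem_finRange j)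
  set a := (Data.torExp.getD i []).getD ((Frob.nodePerm Twist.E6.g).symm j).val 0
  rw [← e, ← Units.val_pow_eq_pow_val, ← Units.val_pow_eq_pow_val]
  congr 1
  conv_lhs => rw [← Nat.mod_add_div (2 * a) 3]
  rw [pow_add, pow_mul, show omu ω hω ^ 3 = 1 by exact_mod_cast omu_cube hK ω hω, one_pow, mul_one]

/-- The torus elements. -/
noncomputable def tel (i : ℕ) : ↥(TT).W :=
  if h : i < 2 then TwMult.E6.tw_tor F one_lt_two hK (torC_fix F hK ω hω h) else 1

/-- The twisted reflections and the torus elements. -/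
noncomputable def yel (s : ℕ) : ↥(TT).W :=
  if h : s < 4 then (TT).nS (⟨s, h⟩ : Fin 4) else tel F hK ω hω (s - 4)

include hK in
theorem wprod_X : ∀ (L : List (Fin chevE6.rank)) (r : Rt chevE6) (t : K),
    C.wprod K L * C.X K r t * (C.wprod K L)⁻¹ = C.X K (L.foldr C.w r) t
  | [], r, t => by simp [Core.wprod]
  | i :: L, r, t => by
    rw [C.wprod_cons, show C.P K i * C.wprod K L * C.X K r t * (C.P K i * C.wprod K L)⁻¹ =
      C.P K i * (C.wprod K L * C.X K r t * (C.wprod K L)⁻¹) * (C.P K i)⁻¹ by group, wprod_X L, C.P_X_conj,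
      cast_sign (two_zero hK) (C.η_one i _), one_mul, List.foldr_cons]

theorem J_eq (m : Fin 4) : (TT).J m = Jfin.getD m.val [] := by
  refine List.map_injective_iff.2 Fin.val_injective ?_
  have h := w_tables
  simp only [List.all_eq_true, List.mem_range, Bool.and_eq_true, beq_iff_eq] at h
  exact (Twist.E6.Js_spec F one_lt_two hK m).trans (h m.val m.isLt ⟨0, by decide⟩ (List.mem_finRange _)).2.symm

theorem yel_letter {s : ℕ} (hs : s < 6) {x : ℕ × ℕ} (hx : x.1 < 72) (hx' : x.2 < 4) :
    (yel F hK ω hω s : GL chevE6.Idx K) * C.X K (Rn x.1) (cf ω x.2) * (yel F hK ω hω s : GL chevE6.Idx K)⁻¹ =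
      C.X K (Rn (amap s x).1) (cf ω (amap s x).2) := by
  by_cases h4 : s < 4
  · rw [yel, dif_pos h4, amap, if_pos (by simpa using h4)]
    show C.wprod K ((TT).J (⟨s, h4⟩ : Fin 4)) * _ * (C.wprod K ((TT).J (⟨s, h4⟩ : Fin 4)))⁻¹ = _
    have h := w_tables
    simp only [List.all_eq_true, List.mem_range, Bool.and_eq_true, decide_eq_true_eq] at h
    rw [J_eq, wprod_X hK, (h s h4 (Rn x.1) (List.mem_finRange _)).1, Rn_val hx]
  · have hi : s - 4 < 2 := by omega
    rw [yel, dif_neg h4, tel, dif_pos hi, amap, if_neg (by simpa using h4)]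
    show C.HT K (torC ω hω (s - 4)) * _ * (C.HT K (torC ω hω (s - 4)))⁻¹ = _
    have h := chi_tables
    simp only [Bool.and_eq_true, List.all_eq_true, List.mem_range, decide_eq_true_eq, Nat.blt_eq] at h
    obtain ⟨e, hlt⟩ := h.1 (s - 4) hi (Rn x.1) (List.mem_finRange _)
    rw [Rn_val hx] at e hlt
    have hchi : (C.chA (torC ω hω (s - 4)) (Rn x.1) : K) =
        cf ω ([1, 2, 3].getD ((Data.chiTab.getD (s - 4) []).getD x.1 0) 1) := by
      rw [← omu_zpow hK ω hω hlt e, C.zpow_fsum]
      unfold Core.chA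
      congr 1
      exact Finset.prod_congr rfl fun j _ => by rw [torC, ← zpow_natCast, ← zpow_mul]
    have hc : ∀ k, [1, 2, 3].getD k 1 < 4 := fun k => by
      rcases k with _ | _ | _ | k <;> simp
    rw [C.HT_X_conj, hchi, ← cf_mul ω (two_zero hK) hω (hc _) hx']

theorem act_sound {s : ℕ} (hs : s < 6) {v w : List ℕ} (h : actB s v w = true) :
    yel F hK ω hω s * wel (gel F hK ω hω) v * (yel F hK ω hω s)⁻¹ = wel (gel F hK ω hω) w := by
  simp only [actB, Bool.and_eq_true] at h
  refine Subtype.ext ?_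
  rw [Subgroup.coe_mul, Subgroup.coe_mul, Subgroup.coe_inv, coe_wel, coe_wel,
    ← eqW_sound ω (two_zero hK) hω h.2]
  generalize v.flatMap gword = l at h ⊢
  have hl := h.1
  clear h
  induction l with
  | nil => simp [ev_nil]
  | cons x l ih =>
    simp only [posL, List.all_cons, Bool.and_eq_true, Nat.blt_eq] at hl
    rw [List.map_cons, ev_cons, ev_cons, ← ih hl.2, ← yel_letter F hK ω hω hs hl.1.1.2 hl.1.2]
    group

/-! ### The unipotent group -/

theorem gel_mem (k : ℕ) : gel F hK ω hω k ∈ uS (TT) C.Pos := by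
  refine (mem_uS _).2 ?_
  show ev ω (gword k) ∈ _
  by_cases hk : k < 38
  · have h := gw_facts.1
    simp only [List.all_eq_true, List.mem_range, Bool.and_eq_true, posL, Nat.blt_eq] at h
    refine list_prod_mem fun y hy => ?_
    obtain ⟨x, hx, rfl⟩ := List.mem_map.1 hy
    obtain ⟨⟨h1, h2⟩, -⟩ := (h k hk).1 x hx
    refine C.X_mem_US K (S := C.Pos) ((TwMult.E6.pos_iff36 _).2 ?_) _
    rw [Rn_val h2]
    omega
  · rw [gword, List.getD_eq_default _ _ (show Data.gw.length ≤ k by
      rw [show Data.gw.length = 36 from rfl]; omega), ev_nil]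
    exact one_mem _

theorem layer_le : ∀ d j, j + d = 24 →
    uS (TT) (SR j) ≤ Subgroup.closure (gel F hK ω hω '' {l | st j ≤ l ∧ l < 36}) := by
  intro d
  induction d with
  | zero =>
    intro j hj g hg
    have he : SR j = ∅ := Set.eq_empty_iff_forall_notMem.2 fun r hr => by
      have := TwMult.E6.pidx_lt r; have := hr.2; omega
    rw [he, uS, Core.US] at hg
    rw [show g = 1 from Subtype.ext (by simpa using Subgroup.mem_subgroupOf.1 hg)]
    exact one_mem _
  | succ d ih =>
    intro j hjd g hg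
    have hj : j < 24 := by omega
    obtain ⟨t, ht⟩ := TwMult.E6.surj_layer F one_lt_two hK hj hg
    obtain ⟨a, ha, hat⟩ := cases4 hK ω hω (t : K)
    have h := lw_check
    simp only [List.all_eq_true, List.mem_range, Bool.and_eq_true, Nat.ble_eq] at h
    obtain ⟨⟨hge, hmono⟩, hw⟩ := h j hj a ha
    have hrp : 36 ≤ (rp j).val := (TwMult.E6.pidx_rp ⟨j, hj⟩).1
    have hpi : π (rp j) = Rn (Data.piTab.getD (rp j).val 0) := by
      have h := gw_facts.2
      simp only [List.all_eq_true, List.mem_range, decide_eq_true_eq] at h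
      have := h (rp j).val (rp j).isLt
      rwa [show Rn (rp j).val = rp j from Fin.ext (Rn_val (rp j).isLt)] at this
    obtain ⟨hel, hlt⟩ : ex φ (rp j) (t : K) = ev ω ((lw j a).flatMap gword) ∧ ∀ l ∈ lw j a, l < 36 := by
      by_cases hf : π (rp j) = rp j
      · rw [if_pos hf] at hw
        have ha1 : a < 2 := by
          by_contra hc
          have h1 := TwMult.E6.valid_Fd t hf
          obtain ⟨n0, n1, n2, n3⟩ := omega_ne ω hω
          rw [← hat, phi_cf F hK ω hω ha] at h1
          interval_cases a <;> simp [sqC, cf] at h1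
        simp only [Bool.or_eq_true, Bool.and_eq_true, List.all_eq_true, Nat.blt_eq] at hw
        obtain ⟨e, hlt⟩ := hw.resolve_left (by omega)
        refine ⟨?_, hlt⟩
        rw [eqW_sound ω (two_zero hK) hω e, ev_cons, ev_nil, mul_one, TwMult.E6.ex_fixed hf, ← hat,
          show Rn (rp j).val = rp j from Fin.ext (Rn_val (rp j).isLt)]
      · rw [if_neg hf] at hw
        simp only [Bool.and_eq_true, List.all_eq_true, Nat.blt_eq] at hw
        refine ⟨?_, hw.2⟩
        rw [eqW_sound ω (two_zero hK) hω hw.1, ev_cons, ev_cons, ev_nil, mul_one, TwMult.E6.ex_moved hf,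
          cast_sign (two_zero hK) (sg_one _), one_mul, hpi, ← hat, phi_cf F hK ω hω ha,
          show Rn (rp j).val = rp j from Fin.ext (Rn_val (rp j).isLt)]
    have hmem : TwMult.E6.el F one_lt_two hK (TwMult.E6.valid_Fd t) ∈
        Subgroup.closure (gel F hK ω hω '' {l | st j ≤ l ∧ l < 36}) := by
      have e : TwMult.E6.el F one_lt_two hK (TwMult.E6.valid_Fd t) = wel (gel F hK ω hω) (lw j a) :=
        Subtype.ext (hel.trans (coe_wel F hK ω hω _).symm)
      rw [e]
      refine list_prod_mem fun y hy => ?_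
      obtain ⟨l, hl, rfl⟩ := List.mem_map.1 hy
      exact Subgroup.subset_closure ⟨l, ⟨hge l hl, hlt l hl⟩, rfl⟩
    rw [← mul_inv_cancel_left (TwMult.E6.el F one_lt_two hK (TwMult.E6.valid_Fd t)) g]
    refine mul_mem hmem (Subgroup.closure_mono (Set.image_mono ?_) (ih (j + 1) (by omega) ht))
    rintro l ⟨h1, h2⟩
    exact ⟨hmono.trans h1, h2⟩

theorem closure_gel {n : ℕ} (hn : 36 ≤ n) :
    Subgroup.closure (gel F hK ω hω '' {l | l < n}) = uS (TT) C.Pos := by
  refine le_antisymm ((Subgroup.closure_le _).2 ?_) ?_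
  · rintro _ ⟨k, -, rfl⟩
    exact gel_mem F hK ω hω k
  · rw [← TwMult.E6.SR_zero]
    refine (layer_le F hK ω hω 24 0 rfl).trans (Subgroup.closure_mono (Set.image_mono ?_))
    rintro l ⟨-, h⟩
    show l < n
    omega

theorem card_U : Nat.card ↥(uS (TT) C.Pos) = 2 ^ 36 := by
  rw [uS, ← Subgroup.inf_subgroupOf_right,
    (Nat.card_congr (Subgroup.subgroupOfEquivOfLe inf_le_right).toEquiv).trans (TT).card_posU]
  show 2 ^ (72 / 2 / 1) = 2 ^ 36
  norm_num

end Cfsg.Agent.Lib.E6Mult45
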