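import Cfsg.Agent.Lib.E6Mult45.Series

/-!
Lifts of the six conjugations to the extension of the unipotent group of ²E₆(2), on the subgroup where each
is defined.
-/

set_option autoImplicit false
set_option maxRecDepth 100000
set_option linter.unusedSectionVars false

namespace Cfsg.Agent.Lib.E6Mult45

open Cfsg.Lie
open Cfsg.Agent.Lib.ChevStructure Cfsg.Agent.Lib.LieTwisted Cfsg.Agent.Lib.LieTwisted.Twist
open Cfsg.Agent.Lib.LieTwisted.Twist.E6 (C)
open Cfsg.Agent.Lib.TwMult (uS mem_uS)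
open Subgroup
open scoped MatrixGroups

universe u

/-- A generator of the subgroup where a conjugation is defined. -/
def dI (s k : ℕ) : ℕ := (Data.dom.getD s []).getD k 0

/-- Its image. -/
def iW (s k : ℕ) : List ℕ := (Data.img.getD s []).getD k []

theorem sub_check : ((List.range 6).all fun s =>
    ((Data.presSub s).boundB && Nat.blt 1 (Data.presSub s).n &&
      Nat.beq (dI s ((Data.presSub s).n - 2)) 36 && Nat.beq (dI s ((Data.presSub s).n - 1)) 37 &&
      (iW s ((Data.presSub s).n - 2) == [36]) && (iW s ((Data.presSub s).n - 1) == [37])) &&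
    (List.range (Data.presSub s).n).all fun i =>
      Nat.blt (dI s i) 38 && (iW s i).all (fun a => Nat.blt a 38) && actB s [dI s i] (iW s i) &&
      (List.range (i + 1)).all fun j =>
        (Nat.beq i j || Nat.blt (dI s j) (dI s i)) &&
        ((Data.presSub s).lhs i j).all (fun a => Nat.blt a (Data.presSub s).n) &&
        ((Data.presSub s).rhs i j).all (fun a => Nat.blt a (Data.presSub s).n) &&
        (((Data.presSub s).lhs i j).map (dI s) == Data.pres38.lhs (dI s i) (dI s j)) &&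
        (((Data.presSub s).rhs i j).map (dI s) == Data.pres38.rhs (dI s i) (dI s j)) &&
        (Data.pres38.collect (((Data.presSub s).lhs i j).flatMap (iW s)) ==
          Data.pres38.collect (((Data.presSub s).rhs i j).flatMap (iW s)))) = true := by decide +kernel

variable {T : Type} [Group T] [Finite T] (M : Data.pres38.Model 0 T)
variable {K : Type u} [Field K] [Fintype K] {φ : K ≃+* K} (F : Frob.Facts K 2 2 φ)
  (hK : Fintype.card K = 2 ^ 2) (ω : K) (hω : ω * ω = ω + 1)

local notation "TT" => Orth.tw (Twist.E6.orth F one_lt_two hK)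

/-- The subgroup where a conjugation is defined. -/
noncomputable def domS (s : ℕ) : Subgroup (↥(TT).W × T) :=
  closure ((fun k => pg M F hK ω hω (dI s k)) '' {l | l < (Data.presSub s).n})

theorem domS_facts {s : ℕ} (hs : s < 6) :
    domS M F hK ω hω s ≤ cov M F hK ω hω ∧ Nat.card (domS M F hK ω hω s) = 2 ^ (Data.presSub s).n ∧
      (∀ t : ↥(cov M F hK ω hω), covHom M F hK ω hω t = 1 →
        (t : ↥(TT).W × T) ∈ domS M F hK ω hω s) := by
  have h := sub_check
  simp only [List.all_eq_true, List.mem_range, Bool.and_eq_true, Bool.or_eq_true, Nat.blt_eq, Nat.beq_eq,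
    beq_iff_eq] at h
  obtain ⟨⟨⟨⟨⟨⟨hb, hn⟩, h36⟩, h37⟩, -⟩, -⟩, hi⟩ := h s hs
  refine ⟨closure_le _ |>.2 ?_, ?_, fun t ht => ?_⟩
  · rintro _ ⟨k, hk, rfl⟩
    exact pg_mem M F hK ω hω (hi k hk).1.1.1
  · have hmap : ∀ w : List ℕ, wel (fun k => pg M F hK ω hω (dI s k)) w = wel (pg M F hK ω hω) (w.map (dI s)) :=
      fun w => by rw [wel, wel, List.map_map]; rfl
    have hc := Pres.card_from (g := fun k => pg M F hK ω hω (dI s k)) hb (j₀ := 0) (fun i hin j hj _ => by
        obtain ⟨⟨⟨⟨⟨hmono, -⟩, -⟩, hl⟩, hr⟩, -⟩ := (hi i hin).2 j (by omega)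
        have hle : dI s j ≤ dI s i := by
          rcases hmono with rfl | h
          · exact le_rfl
          · exact h.le
        rw [hmap, hmap, hl, hr]
        exact relPg M F hK ω hω _ (hi i hin).1.1.1 _ hle (Nat.zero_le _))
      (fun k hk _ hmem => by
        refine strictPg M F hK ω hω _ (hi k hk).1.1.1 ((closure_le _).2 ?_ hmem)
        rintro _ ⟨l, ⟨hkl, hl⟩, rfl⟩
        refine subset_closure ⟨dI s l, ⟨?_, (hi l hl).1.1.1⟩, rfl⟩
        exact ((hi l hl).2 k (by omega)).1.1.1.1.1.resolve_left (by omega))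
      (Data.presSub s).n 0 le_rfl (by omega)
    rw [← hc, domS, show {l : ℕ | 0 ≤ l ∧ l < (Data.presSub s).n} = {l | l < (Data.presSub s).n} by ext; simp]
  · refine (closure_le _).2 ?_ ((ker_cov M F hK ω hω t).1 ht)
    rintro _ ⟨l, hl, rfl⟩
    have hl' : l = 36 ∨ l = 37 := by
      have h1 : 36 ≤ l ∧ l < 38 := hl
      omega
    rcases hl' with rfl | rfl
    · exact subset_closure ⟨(Data.presSub s).n - 2,
        show (Data.presSub s).n - 2 < (Data.presSub s).n by omega, by simp only [h36]⟩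
    · exact subset_closure ⟨(Data.presSub s).n - 1,
        show (Data.presSub s).n - 1 < (Data.presSub s).n by omega, by simp only [h37]⟩

/-- The lift of a conjugation. -/
theorem exists_lift {s : ℕ} (hs : s < 6) : ∃ θ : ↥(cov M F hK ω hω) → ↥(cov M F hK ω hω),
    (∀ x : ↥(cov M F hK ω hω), (x : ↥(TT).W × T) ∈ domS M F hK ω hω s →
      covHom M F hK ω hω (θ x) = yel F hK ω hω s * covHom M F hK ω hω x * (yel F hK ω hω s)⁻¹) ∧
    (∀ x y : ↥(cov M F hK ω hω), (x : ↥(TT).W × T) ∈ domS M F hK ω hω s →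
      (y : ↥(TT).W × T) ∈ domS M F hK ω hω s → θ (x * y) = θ x * θ y) ∧
    ∀ z ∈ (covHom M F hK ω hω).ker, θ z = z := by
  classical
  obtain ⟨hDle, hDcard, hDker⟩ := domS_facts M F hK ω hω hs
  have h := sub_check
  simp only [List.all_eq_true, List.mem_range, Bool.and_eq_true, Bool.or_eq_true, Nat.blt_eq, Nat.beq_eq,
    beq_iff_eq] at h
  obtain ⟨⟨⟨⟨⟨⟨hb, hn⟩, h36⟩, h37⟩, i36⟩, i37⟩, hi⟩ := h s hs
  set y := yel F hK ω hω s with hy
  set P : ℕ → (↥(TT).W × T) × (↥(TT).W × T) :=
    fun k => (pg M F hK ω hω (dI s k), wel (pg M F hK ω hω) (iW s k)) with hP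
  set S := closure (P '' {l | l < (Data.presSub s).n}) with hSdef
  have hwP : ∀ w : List ℕ, wel P w =
      (wel (pg M F hK ω hω) (w.map (dI s)), wel (pg M F hK ω hω) (w.flatMap (iW s))) := by
    intro w
    induction w with
    | nil => rfl
    | cons a w ih => rw [wel_cons, ih, List.map_cons, List.flatMap_cons, wel_cons, wel_append]; rfl
  have hgen : ∀ k < (Data.presSub s).n, wel (gel F hK ω hω) (iW s k) =
      y * gel F hK ω hω (dI s k) * y⁻¹ := by
    intro k hk
    have := act_sound F hK ω hω hs (hi k hk).1.2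
    simpa [wel] using this.symm
  have hconj : ∀ w : List ℕ, (∀ a ∈ w, a < (Data.presSub s).n) →
      wel (gel F hK ω hω) (w.flatMap (iW s)) = y * wel (gel F hK ω hω) (w.map (dI s)) * y⁻¹ := by
    intro w hw
    induction w with
    | nil => simp [wel]
    | cons a w ih =>
      rw [List.flatMap_cons, wel_append, List.map_cons, wel_cons, hgen a (hw a List.mem_cons_self),
        ih fun b hb => hw b (List.mem_cons_of_mem _ hb)]
      group
  have hrel : (Data.presSub s).RelsFrom P 0 := by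
    intro i hin j hj _
    obtain ⟨⟨⟨⟨⟨hmono, hl'⟩, hr'⟩, hl⟩, hr⟩, himg⟩ := (hi i hin).2 j (by omega)
    have hle : dI s j ≤ dI s i := by
      rcases hmono with rfl | h
      · exact le_rfl
      · exact h.le
    have h1 : wel (pg M F hK ω hω) (((Data.presSub s).lhs i j).map (dI s)) =
        wel (pg M F hK ω hω) (((Data.presSub s).rhs i j).map (dI s)) := by
      rw [hl, hr]; exact relPg M F hK ω hω _ (hi i hin).1.1.1 _ hle (Nat.zero_le _)
    rw [hwP, hwP]
    refine Prod.ext h1 ?_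
    show wel (pg M F hK ω hω) _ = wel (pg M F hK ω hω) _
    rw [wel_pg, wel_pg]
    refine Prod.ext ?_ ?_
    · show wel (gel F hK ω hω) _ = wel (gel F hK ω hω) _
      rw [hconj _ hl', hconj _ hr']
      have h2 := congrArg Prod.fst h1
      rw [wel_pg, wel_pg] at h2
      exact congrArg (fun g => y * g * y⁻¹) h2
    · show wel M.g _ = wel M.g _
      have hmem : ∀ v : List ℕ, (∀ a ∈ v, a < (Data.presSub s).n) → ∀ a ∈ v.flatMap (iW s), 0 ≤ a ∧ a < 38 := by
        intro v hv a ha
        obtain ⟨b, hb, hab⟩ := List.mem_flatMap.1 ha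
        exact ⟨Nat.zero_le a, (hi b (hv b hb)).1.1.2 a hab⟩
      exact Pres.eq_of_collect bound38 M.rel (hmem _ hl') (hmem _ hr') (by rw [beq_iff_eq]; exact himg)
  have hcardS : Nat.card S = 2 ^ (Data.presSub s).n := by
    have hc := Pres.card_from (g := P) hb (j₀ := 0) hrel (fun k hk _ hmem => by
      have h2 := mem_map_of_mem (MonoidHom.fst _ (↥(TT).W × T)) hmem
      rw [MonoidHom.map_closure, Set.image_image] at h2
      refine strictPg M F hK ω hω _ (hi k hk).1.1.1 ((closure_le _).2 ?_ h2)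
      rintro _ ⟨l, ⟨hkl, hl⟩, rfl⟩
      refine subset_closure ⟨dI s l, ⟨?_, (hi l hl).1.1.1⟩, rfl⟩
      exact ((hi l hl).2 k (by omega)).1.1.1.1.1.resolve_left (by omega))
      (Data.presSub s).n 0 le_rfl (by omega)
    rw [← hc, hSdef, show {l : ℕ | 0 ≤ l ∧ l < (Data.presSub s).n} = {l | l < (Data.presSub s).n} by ext; simp]
  have hSmap : S.map (MonoidHom.fst _ _) = domS M F hK ω hω s := by
    rw [hSdef, MonoidHom.map_closure, Set.image_image]
    rfl
  have : Finite (↥(TT).W × T) := inferInstance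
  have hinj : ∀ p ∈ S, ∀ p' ∈ S, p.1 = p'.1 → p = p' := by
    have hb : Function.Bijective (fun p : S =>
        (⟨p.1.1, hSmap ▸ mem_map_of_mem (MonoidHom.fst _ _) p.2⟩ : domS M F hK ω hω s)) := by
      refine (Nat.bijective_iff_surjective_and_card _).2 ⟨fun ⟨d, hd⟩ => ?_, hcardS.trans hDcard.symm⟩
      rw [← hSmap] at hd
      obtain ⟨p, hp, rfl⟩ := hd
      exact ⟨⟨p, hp⟩, rfl⟩
    intro p hp p' hp' e
    exact congrArg Subtype.val (hb.1 (a₁ := ⟨p, hp⟩) (a₂ := ⟨p', hp'⟩) (Subtype.ext e))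
  have hsnd : ∀ p ∈ S, p.2 ∈ cov M F hK ω hω ∧ p.2.1 = y * p.1.1 * y⁻¹ := by
    intro p hp
    induction hp using closure_induction with
    | mem x hx =>
      obtain ⟨k, hk, rfl⟩ := hx
      refine ⟨list_prod_mem fun z hz => ?_, ?_⟩
      · obtain ⟨a, ha, rfl⟩ := List.mem_map.1 hz
        exact pg_mem M F hK ω hω ((hi k hk).1.1.2 a ha)
      · show (wel (pg M F hK ω hω) (iW s k)).1 = y * gel F hK ω hω (dI s k) * y⁻¹
        rw [wel_pg]
        exact hgen k hk
    | one => exact ⟨one_mem _, by simp⟩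
    | mul a b _ _ ha hb => exact ⟨mul_mem ha.1 hb.1, by simp only [Prod.snd_mul, Prod.fst_mul, ha.2, hb.2]; group⟩
    | inv a _ ha => exact ⟨inv_mem ha.1, by simp only [Prod.snd_inv, Prod.fst_inv, ha.2]; group⟩
  have hex : ∀ x : ↥(cov M F hK ω hω), (x : ↥(TT).W × T) ∈ domS M F hK ω hω s →
      ∃ b, ((x : ↥(TT).W × T), b) ∈ S := by
    intro x hx
    rw [← hSmap] at hx
    obtain ⟨⟨a, b⟩, hs', he'⟩ := hx
    exact ⟨b, he' ▸ hs'⟩
  let θ : ↥(cov M F hK ω hω) → ↥(cov M F hK ω hω) := fun x =>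
    if hx : (x : ↥(TT).W × T) ∈ domS M F hK ω hω s then
      ⟨(hex x hx).choose, (hsnd _ (hex x hx).choose_spec).1⟩ else 1
  have hθ : ∀ x : ↥(cov M F hK ω hω), (x : ↥(TT).W × T) ∈ domS M F hK ω hω s →
      ((x : ↥(TT).W × T), (θ x : ↥(TT).W × T)) ∈ S := by
    intro x hx
    simp only [θ, dif_pos hx]
    exact (hex x hx).choose_spec
  refine ⟨θ, fun x hx => (hsnd _ (hθ x hx)).2, fun x y hx hy => ?_, fun z hz => ?_⟩
  · exact Subtype.ext (congrArg Prod.snd
      (hinj _ (hθ _ (mul_mem hx hy)) _ (mul_mem (hθ x hx) (hθ y hy)) rfl))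
  · have hzD := hDker z hz
    have hzz : ((z : ↥(TT).W × T), (z : ↥(TT).W × T)) ∈ S := by
      have hle : closure (pg M F hK ω hω '' {l | 36 ≤ l ∧ l < 38}) ≤
          S.comap ((MonoidHom.id _).prod (MonoidHom.id _)) := by
        rw [closure_le]
        rintro _ ⟨l, hl, rfl⟩
        have hl' : l = 36 ∨ l = 37 := by
          have h1 : 36 ≤ l ∧ l < 38 := hl
          omega
        rcases hl' with rfl | rfl
        · exact subset_closure ⟨(Data.presSub s).n - 2,
        show (Data.presSub s).n - 2 < (Data.presSub s).n by omega, by simp [hP, h36, i36, wel]⟩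
        · exact subset_closure ⟨(Data.presSub s).n - 1,
        show (Data.presSub s).n - 1 < (Data.presSub s).n by omega, by simp [hP, h37, i37, wel]⟩
      exact hle ((ker_cov M F hK ω hω z).1 hz)
    exact Subtype.ext (congrArg Prod.snd (hinj _ (hθ z hzD) _ hzz rfl))

end Cfsg.Agent.Lib.E6Mult45
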