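import Cfsg.Agent.Lib.TwMult.E6Layers
import Cfsg.Agent.Lib.E6Mult45.Data

/-!
Words in root elements of E₆ over the field of four elements: a letter is a root number with the code of a
coefficient (0, 1, ω, ω + 1).  Collection of such words by increasing root number is sound.
-/

set_option autoImplicit false
set_option maxRecDepth 100000
set_option linter.unusedSectionVars false

namespace Cfsg.Agent.Lib.E6Mult45

open Cfsg.Lie
open Cfsg.Agent.Lib.ChevStructure Cfsg.Agent.Lib.LieTwisted Cfsg.Agent.Lib.LieTwisted.Twist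
open Cfsg.Agent.Lib.LieTwisted.Twist.E6 (C)
open Cfsg.Agent.Lib.TwMult.E6 (Rn comm')
open scoped MatrixGroups

universe u

/-- The products of the codes. -/
def cmul (a b : ℕ) : ℕ := ([[0, 0, 0, 0], [0, 1, 2, 3], [0, 2, 3, 1], [0, 3, 1, 2]].getD a []).getD b 0

/-- The sums of the codes. -/
def cadd (a b : ℕ) : ℕ := ([[0, 1, 2, 3], [1, 0, 3, 2], [2, 3, 0, 1], [3, 2, 1, 0]].getD a []).getD b 0

/-- The sum of two positive roots, zero where it is no root. -/
def padd (r s : ℕ) : ℕ := (Data.addTab.getD (r - 36) []).getD (s - 36) 0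

/-- Rewriting from the right. -/
def crun : ℕ → List (ℕ × ℕ) → List (ℕ × ℕ) → List (ℕ × ℕ)
  | 0, rev, q => rev.reverse ++ q
  | _ + 1, [], q => q
  | f + 1, (r, a) :: rev, q =>
    if Nat.beq a 0 then crun f rev q else
    match q with
    | [] => crun f rev [(r, a)]
    | (s, b) :: q' =>
      if Nat.beq r s then crun f ((r, cadd a b) :: rev) q'
      else if Nat.blt r s then crun f rev ((r, a) :: (s, b) :: q')
      else if Nat.beq (padd r s) 0 then crun f ((r, a) :: (s, b) :: rev) q'
      else crun f ((padd r s, cmul a b) :: (r, a) :: (s, b) :: rev) q'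

/-- Collection. -/
def coll (w : List (ℕ × ℕ)) : List (ℕ × ℕ) := crun 300 w.reverse []

/-- The letters are positive roots. -/
def posL (w : List (ℕ × ℕ)) : Bool := w.all fun x => Nat.blt 35 x.1 && Nat.blt x.1 72 && Nat.blt x.2 4

variable {K : Type u} [Field K]

/-- The coefficient of a code. -/
def cf (ω : K) : ℕ → K
  | 1 => 1
  | 2 => ω
  | 3 => ω + 1
  | _ => 0

/-- The element of a word. -/
noncomputable def ev (ω : K) (w : List (ℕ × ℕ)) : GL chevE6.Idx K :=
  (w.map fun x => C.X K (Rn x.1) (cf ω x.2)).prod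

variable (ω : K)

theorem ev_append (v w : List (ℕ × ℕ)) : ev ω (v ++ w) = ev ω v * ev ω w := by simp [ev]

theorem ev_cons (x : ℕ × ℕ) (w : List (ℕ × ℕ)) : ev ω (x :: w) = C.X K (Rn x.1) (cf ω x.2) * ev ω w := by
  simp [ev]

theorem ev_nil : ev ω [] = 1 := by simp [ev]

theorem ev_flatMap {α : Type*} (f : α → List (ℕ × ℕ)) : ∀ l : List α,
    ev ω (l.flatMap f) = (l.map fun a => ev ω (f a)).prod
  | [] => by simp [ev_nil]
  | a :: l => by rw [List.flatMap_cons, ev_append, ev_flatMap f l, List.map_cons, List.prod_cons]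

theorem padd_facts : ((List.range 36).all fun i => (List.range 36).all fun j =>
    Nat.beq i j || (decide (Rn (36 + j) ≠ (Rn (36 + i)).rev) &&
      if Nat.beq (padd (36 + i) (36 + j)) 0 then (chevE6.commTerms (36 + i) (36 + j)).isEmpty
      else Nat.blt 35 (padd (36 + i) (36 + j)) && Nat.blt (padd (36 + i) (36 + j)) 72 &&
        Nat.blt (36 + i) (padd (36 + i) (36 + j)) && Nat.blt (36 + j) (padd (36 + i) (36 + j)) &&
        ((chevE6.commTerms (36 + i) (36 + j)).map fun c => (c.1, decide (c.2.1 % 2 = 1), c.2.2)) ==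
          [(padd (36 + i) (36 + j), true, 1, 1)])) = true := by decide +kernel

theorem cf_tables : ∀ a < 4, ∀ b < 4, cadd a b < 4 ∧ cmul a b < 4 := by decide

theorem Rn_val {r : ℕ} (h : r < 72) : (Rn r).val = r := Nat.mod_eq_of_lt h

variable (h2 : (2 : K) = 0) (hω : ω * ω = ω + 1)
include h2

theorem neg_self (t : K) : -t = t := by linear_combination (-t) * h2

theorem cast_odd {c : ℤ} (h : c % 2 = 1) : (c : K) = 1 := by
  rw [← Int.mul_ediv_add_emod c 2, h]
  push_cast
  rw [h2, zero_mul, zero_add]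

theorem cast_sign {c : ℤ} (h : c = 1 ∨ c = -1) : (c : K) = 1 := cast_odd h2 (by rcases h with rfl | rfl <;> rfl)

theorem cf_add {a b : ℕ} (ha : a < 4) (hb : b < 4) : cf ω (cadd a b) = cf ω a + cf ω b := by
  interval_cases a <;> interval_cases b <;> simp [cadd, cf] <;>
    linear_combination (norm := (ring_nf; try simp [h2])) (0 : K) * h2
include hω in
theorem cf_mul {a b : ℕ} (ha : a < 4) (hb : b < 4) : cf ω (cmul a b) = cf ω a * cf ω b := by
  interval_cases a <;> interval_cases b <;> simp [cmul, cf]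
  all_goals first
    | linear_combination (-1 : K) * hω
    | linear_combination (-1 : K) * hω - ω * h2
    | linear_combination (-1 : K) * hω - (1 + ω) * h2
    | linear_combination (-1 : K) * hω - h2

include hω in
theorem comm_step {r s a b : ℕ} (hr : 36 ≤ r) (hr' : r < 72) (hs : 36 ≤ s) (hs' : s < 72) (hne : r ≠ s)
    (ha : a < 4) (hb : b < 4) :
    C.X K (Rn r) (cf ω a) * C.X K (Rn s) (cf ω b) =
      ev ω (if Nat.beq (padd r s) 0 then [(s, b), (r, a)] else [(s, b), (r, a), (padd r s, cmul a b)]) := by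
  have h := padd_facts
  simp only [List.all_eq_true, List.mem_range, Bool.or_eq_true, Bool.and_eq_true, Nat.beq_eq,
    decide_eq_true_eq] at h
  obtain ⟨i, rfl⟩ : ∃ i, r = 36 + i := ⟨r - 36, by omega⟩
  obtain ⟨j, rfl⟩ : ∃ j, s = 36 + j := ⟨s - 36, by omega⟩
  obtain ⟨hrev, h⟩ := (h j (by omega) i (by omega)).resolve_left (by omega)
  have e := comm'.comm_X (R := K) (Rn (36 + j)) (Rn (36 + i)) (fun h => hne (by
    have := congrArg Fin.val h
    rwa [Rn_val hr', Rn_val hs'] at this)) hrev (cf ω b) (cf ω a)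
  rw [Rn_val hs', Rn_val hr', neg_self h2] at e
  rw [e]
  have hsym : ∀ i < 36, ∀ j < 36, padd (36 + i) (36 + j) = padd (36 + j) (36 + i) := by decide +kernel
  rw [hsym i (by omega) j (by omega)]
  by_cases hz : padd (36 + j) (36 + i) = 0
  · rw [if_pos hz, List.isEmpty_iff] at h
    rw [if_pos (by simp [hz])]
    simp [h, ev_cons, ev_nil]
  · rw [if_neg hz] at h
    rw [if_neg (by simp [hz])]
    simp only [Bool.and_eq_true, Nat.blt_eq, beq_iff_eq] at h
    obtain ⟨⟨⟨⟨-, hlt⟩, -⟩, -⟩, hm⟩ := h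
    obtain ⟨c, hc, hc'⟩ := List.map_eq_singleton_iff.1 hm
    simp only [Prod.mk.injEq, decide_eq_true_eq] at hc'
    obtain ⟨h1, h3, h4⟩ := hc'
    rw [hc, ev_cons, ev_cons, ev_cons, ev_nil]
    simp only [List.map_cons, List.map_nil, List.prod_cons, List.prod_nil, mul_one, ← mul_assoc]
    congr 1
    rw [show c.1 = (Rn (padd (36 + j) (36 + i))).val by rw [h1, Rn_val hlt], C.XN_fin, h4,
      cast_odd h2 h3, pow_one, pow_one, one_mul, cf_mul ω h2 hω ha hb, mul_comm]

include hω in
theorem crun_spec : ∀ (f : ℕ) (rev q : List (ℕ × ℕ)), posL rev = true → posL q = true →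
    ev ω (rev.reverse ++ q) = ev ω (crun f rev q)
  | 0, rev, q, _, _ => rfl
  | _ + 1, [], q, _, _ => rfl
  | f + 1, (r, a) :: rev, q, hr, hq => by
    simp only [posL, List.all_cons, Bool.and_eq_true, Nat.blt_eq] at hr
    obtain ⟨⟨⟨hr1, hr2⟩, ha⟩, hrev⟩ := hr
    rw [crun.eq_def]
    dsimp only
    by_cases h0 : a = 0
    · subst h0
      rw [if_pos (by rfl), ← crun_spec f rev q hrev hq]
      simp [ev_append, ev_cons, ev_nil, cf, C.X_zero]
    rw [if_neg (by simp [h0])]
    match q, hq with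
    | [], _ =>
      dsimp only
      rw [← crun_spec f rev [(r, a)] hrev (by simp [posL, ha]; omega)]
      simp
    | (s, b) :: q', hq =>
      dsimp only
      simp only [posL, List.all_cons, Bool.and_eq_true, Nat.blt_eq] at hq
      obtain ⟨⟨⟨hs1, hs2⟩, hb⟩, hq'⟩ := hq
      obtain ⟨t1, t2⟩ := cf_tables a ha b hb
      by_cases hrs : r = s
      · subst hrs
        rw [if_pos (by simp), ← crun_spec f _ q' ?_ hq']
        · simp only [List.reverse_cons, ev_append, ev_cons, ev_nil, mul_one, mul_assoc]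
          rw [← mul_assoc (C.X K (Rn r) (cf ω a)), C.X_add, cf_add ω h2 ha hb]
        · simp only [posL, List.all_cons, Bool.and_eq_true, Nat.blt_eq]
          exact ⟨⟨⟨hr1, hr2⟩, t1⟩, hrev⟩
      rw [if_neg (by simpa using hrs)]
      by_cases hlt : r < s
      · rw [if_pos (by simpa using hlt), ← crun_spec f rev _ hrev ?_]
        · simp
        · simp only [posL, List.all_cons, Bool.and_eq_true, Nat.blt_eq]
          exact ⟨⟨⟨hr1, hr2⟩, ha⟩, ⟨⟨hs1, hs2⟩, hb⟩, hq'⟩
      rw [if_neg (by simpa using hlt)]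
      have e := comm_step ω h2 hω (show 36 ≤ r by omega) hr2 (show 36 ≤ s by omega) hs2 hrs ha hb
      by_cases hp : padd r s = 0
      · rw [if_pos (by simp [hp])] at e ⊢
        rw [← crun_spec f _ q' ?_ hq']
        · simp only [List.reverse_cons, ev_append, ev_cons, ev_nil, mul_one, mul_assoc] at e ⊢
          rw [← mul_assoc (C.X K (Rn r) (cf ω a)), e]
          simp only [mul_assoc]
        · simp only [posL, List.all_cons, Bool.and_eq_true, Nat.blt_eq]
          exact ⟨⟨⟨hr1, hr2⟩, ha⟩, ⟨⟨hs1, hs2⟩, hb⟩, hrev⟩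
      · rw [if_neg (by simp [hp])] at e ⊢
        rw [← crun_spec f _ q' ?_ hq']
        · simp only [List.reverse_cons, ev_append, ev_cons, ev_nil, mul_one, mul_assoc] at e ⊢
          rw [← mul_assoc (C.X K (Rn r) (cf ω a)), e]
          simp only [mul_assoc]
        · have h := padd_facts
          simp only [List.all_eq_true, List.mem_range, Bool.or_eq_true, Bool.and_eq_true, Nat.beq_eq] at h
          have h' := ((h (r - 36) (by omega) (s - 36) (by omega)).resolve_left (by omega)).2
          rw [show 36 + (r - 36) = r by omega, show 36 + (s - 36) = s by omega, if_neg hp] at h'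
          simp only [Bool.and_eq_true, Nat.blt_eq] at h'
          obtain ⟨⟨⟨⟨p1, p2⟩, -⟩, -⟩, -⟩ := h'
          simp only [posL, List.all_cons, Bool.and_eq_true, Nat.blt_eq]
          exact ⟨⟨⟨p1, p2⟩, t2⟩, ⟨⟨hr1, hr2⟩, ha⟩, ⟨⟨hs1, hs2⟩, hb⟩, hrev⟩

/-- Two words with the same collection. -/
def eqW (v w : List (ℕ × ℕ)) : Bool := posL v && posL w && coll v == coll w

include hω in
theorem eqW_sound {v w : List (ℕ × ℕ)} (h : eqW v w = true) : ev ω v = ev ω w := by
  simp only [eqW, Bool.and_eq_true, beq_iff_eq] at h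
  obtain ⟨⟨hv, hw⟩, e⟩ := h
  have h1 := crun_spec ω h2 hω 300 v.reverse [] (by simpa [posL] using hv) rfl
  have h3 := crun_spec ω h2 hω 300 w.reverse [] (by simpa [posL] using hw) rfl
  rw [List.reverse_reverse, List.append_nil] at h1 h3
  rw [h1, h3]
  exact congrArg (ev ω) e

end Cfsg.Agent.Lib.E6Mult45
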